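import Cfsg.Agent.ThFive.Abs
import Cfsg.Agent.CpAutHN.Second
import Cfsg.Agent.CpAutTh.ThreeE
import Cfsg.Agent.CpAutHNFive.Main
import Cfsg.Agent.H513.NilpExt_m3
import Cfsg.Agent.H513.NilpLy
import Cfsg.Agent.H805.NilSp_m3
import Cfsg.Agent.HN.DoubleCover
import Cfsg.Agent.FastGrp
import Cfsg.Agent.Prune
set_option linter.all false

section
prune_inst 0x7ffcfefbaff88ddfffff7e7ffefddffe3cd4dfffffdffb4bfffdfbffefdf236b3be5fb8f9de458ffded7e2beb0b87853fdffdeffef6bdc7ffffd5ff45ffbee1ff7ffbfad71f7bc341ffe6ffffbf17fffffffffffffffffffffffffffffffffffffffffffffff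

-- part: BpSpor/UniqueNC
section
prune_inst 0x301041005700000000180010000000102000000000400000000001020908404000060001082000100000008000000020020000000010000000000000000400000001000000340c00000000002000000000000000000000000000000000000000000000000
set_option linter.all false
open scoped Cfsg.Agent.FastGrp

/-!
# S1332, sporadic rows: one involution, no component (helper25)

* `noComp_of_unique` : `s` is the only involution of `C_H(s)`, `p ^ k` divides `|H|` but not `|C_H(s)|`: `NoComp p H`;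
* `exists_conj_mul` : `x`, `y` commuting of order `p`, `p ^ 3 ∣ |C(y)|`, `p ^ 3 ∤ |C(x)|`: `x` is conjugate to `y ^ i x`
  for all `i`.
-/

set_option autoImplicit false

namespace Cfsg.Agent.BpSpor

open Subgroup Cfsg
open Cfsg.Agent.BpTab Cfsg.Agent.Lib

universe u

section NC

variable {H : Type u} [Group H] [Finite H] {p : ℕ}

end NC

section Conj

variable {G : Type u} [Group G] [Finite G] {p : ℕ}

/-- `p² ∣ |Q|`: the centralizer of an element of order `p` has order divisible by `p²` -/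
theorem sq_dvd_centralizer (hp : p.Prime) {x : G} (hx : orderOf x = p) (h : p ^ 2 ∣ Nat.card G) :
    p ^ 2 ∣ Nat.card ↥(centralizer ({x} : Set G)) := by
  have : Fact p.Prime := ⟨hp⟩
  have h1 : IsPGroup p ↥(zpowers x) := IsPGroup.of_card (n := 1) (by rw [Nat.card_zpowers, hx, pow_one])
  obtain ⟨S, hS⟩ := h1.exists_le_sylow
  have hxS : x ∈ (S : Subgroup G) := hS (mem_zpowers x)
  have hS2 : p ^ 2 ∣ Nat.card ↥(S : Subgroup G) := S.pow_dvd_card_of_pow_dvd_card (n := 2) h
  set D : Subgroup G := centralizer ({x} : Set G) ⊓ S with hD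
  have hDp : IsPGroup p ↥D := S.2.to_le inf_le_right
  have hle : zpowers x ≤ D := by
    rw [zpowers_le]
    exact ⟨mem_centralizer_singleton_iff.2 rfl, hxS⟩
  obtain ⟨n, hn⟩ := IsPGroup.iff_card.1 hDp
  by_cases h2 : 2 ≤ n
  · exact (pow_dvd_pow p h2).trans ((dvd_of_eq hn.symm).trans (card_dvd_of_le inf_le_left))
  · exfalso
    have hD1 : Nat.card ↥D ≤ p := by
      rw [hn]
      calc p ^ n ≤ p ^ 1 := Nat.pow_le_pow_right hp.pos (by omega)
        _ = p := pow_one p
    have h3 : zpowers x = D := eq_of_le_of_card_ge hle (by rw [Nat.card_zpowers, hx]; exact hD1)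
    -- the centre of `S`
    have hnt : Nontrivial ↥(S : Subgroup G) := by
      by_contra hcon
      rw [not_nontrivial_iff_subsingleton] at hcon
      rw [Nat.card_unique] at hS2
      have := Nat.le_of_dvd one_pos hS2
      have h4 := hp.two_le
      nlinarith
    have hcen : Nontrivial (center ↥(S : Subgroup G)) := S.isPGroup'.center_nontrivial
    obtain ⟨c, hc⟩ := exists_ne (1 : center ↥(S : Subgroup G))
    have hcS : ∀ y ∈ (S : Subgroup G), y * ((c : ↥(S : Subgroup G)) : G) = (c : ↥(S : Subgroup G)) * y := by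
      intro y hy
      exact congrArg Subtype.val (mem_center_iff.1 c.2 ⟨y, hy⟩)
    have hcD : ((c : ↥(S : Subgroup G)) : G) ∈ zpowers x := by
      rw [h3]
      exact ⟨mem_centralizer_singleton_iff.2 (hcS x hxS).symm, (c : ↥(S : Subgroup G)).2⟩
    have hc1 : ((c : ↥(S : Subgroup G)) : G) ≠ 1 := fun h => hc (Subtype.ext (Subtype.ext h))
    have hzc : zpowers ((c : ↥(S : Subgroup G)) : G) = zpowers x := by
      apply eq_of_le_of_card_ge (zpowers_le.2 hcD)
      rw [Nat.card_zpowers, Nat.card_zpowers, hx]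
      have h4 : orderOf ((c : ↥(S : Subgroup G)) : G) ∣ p := by
        rw [← Nat.card_zpowers]
        refine (card_dvd_of_le (zpowers_le.2 hcD)).trans ?_
        rw [Nat.card_zpowers, hx]
      rcases (Nat.dvd_prime hp).1 h4 with h5 | h5
      · exact (hc1 (orderOf_eq_one_iff.1 h5)).elim
      · rw [h5]
    have hxc : x ∈ zpowers ((c : ↥(S : Subgroup G)) : G) := by rw [hzc]; exact mem_zpowers x
    obtain ⟨j, hj⟩ := mem_zpowers_iff.1 hxc
    have hSD : (S : Subgroup G) ≤ D := by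
      intro y hy
      refine ⟨mem_centralizer_singleton_iff.2 ?_, hy⟩
      rw [← hj]
      exact ((show Commute y ((c : ↥(S : Subgroup G)) : G) from hcS y hy).zpow_right j).eq
    have h4 := Nat.le_of_dvd Nat.card_pos (hS2.trans (card_dvd_of_le hSD))
    have h5 := hp.two_le
    nlinarith

end Conj

end Cfsg.Agent.BpSpor
end

-- part: BpSpor/HNFiveA
section
prune_inst 0x30104100032200000000001000001c3292000000000b0000000001020c804c0100020620b810020201c000a4607ac000020000090210000020008200411c0080040120c00034ac0011000040e800000000000000000000000000000000000000000000000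
set_option linter.all false
open scoped Cfsg.Agent.FastGrp

/-!
# S1332: HN, `p = 5` : the elements of type I (helper25)

* `dvd_ψw1` : `125 ∣ |C(ψ w1)|`; `dvd_two` : `125 ∣ |C(x)|`, `x` of type II;
* `dvd_one` : `125 ∣ |C(x)|`, `x` of type I; `good_one` : `Good 5 C(x)`, `x` of type I.
(Everything about the elements of order 5 of HN is taken from helper89's files `CpAutHNFive/*`.)
-/

set_option autoImplicit false

namespace Cfsg.Agent.BpSpor.HNFiveA

open Cfsg.Agent.HN.Pres Cfsg.Agent.HN.H0Basic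
open Cfsg.Agent.HN.P1408 hiding ψ
open Cfsg.Agent.HN.XWords (W0 W0_sq)
open Cfsg.Agent.HN.NormalH (ψ)
open Cfsg Cfsg.Agent
open Cfsg.Agent.KFacts.HN
open Cfsg.Agent.CpAutTh.RankOne (UInv)
open Cfsg.Agent.CpAutHN.PPFacts (isPGroup_ker)
open Cfsg.Agent.CpAutHNFive Cfsg.Agent.CpAutHNFive.LFive Cfsg.Agent.CpAutHNFive.PFive
open Cfsg.Agent.CpAutHNFive.TFive Cfsg.Agent.CpAutHNFive.HFacts
open Cfsg.Agent.CpAutHNFive.HTab hiding c5
open Cfsg.Agent.CpAutHNFive.TauFive
open Subgroup

/-- **`125 ∣ |C(w1)|`** -/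
theorem dvd_w1 : 5 ^ 3 ∣ Nat.card ↥(centralizer ({hw w1} : Set H0)) := by
  have := finite_H0
  have h1 : hw [0, 4, 3, 0, 3, 0, 3, 1, 2, 4, 2, 1, 2] * hw w1 * (hw [0, 4, 3, 0, 3, 0, 3, 1, 2, 4, 2, 1, 2])⁻¹ = hw wz := by
    rw [mul_inv_eq_iff_eq_mul, ← hw_append, ← hw_append]
    exact hw_eq (by decide +kernel)
  rw [← card_cent_of_conj h1, ← card_closure HTab.c5 d5 z5 z1 cz dz cd]
  apply card_dvd_of_le
  rw [closure_le]
  rintro y (rfl | rfl)
  · exact mem_centralizer_singleton_iff.2 cz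
  · exact mem_centralizer_singleton_iff.2 dz

theorem dvd_ψw1 : 5 ^ 3 ∣ Nat.card ↥(centralizer ({ψ (hw w1)} : Set G)) := by
  have h1 : (centralizer ({hw w1} : Set H0)).map ψ ≤ centralizer ({ψ (hw w1)} : Set G) := by
    rintro _ ⟨v, hv, rfl⟩
    rw [mem_centralizer_singleton_iff, ← map_mul, ← map_mul, mem_centralizer_singleton_iff.1 hv]
  have h2 := card_dvd_of_le h1
  rw [card_map_of_injective emb.inj] at h2
  exact dvd_w1.trans h2

theorem hW : W0 = ψ (Cfsg.Agent.HN.Syl.a * τ) := Cfsg.Agent.HN.XWords.W0_eq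

theorem w1_PP : ψ (hw w1) ∈ PP := by
  have hc : Cfsg.Agent.HN.Syl.a * τ * hw w1 = hw w1 * (Cfsg.Agent.HN.Syl.a * τ) := by
    rw [mul_assoc, ← τ_comm, ← mul_assoc, a_comm, mul_assoc]
  rw [mem_PP, hW, ← map_mul, ← map_mul, hc]

/-- the group `⟨τ⟩ × ⟨q⟩` in `C(ψ w1) ∩ C(W0)` -/
theorem eight_dvd : 8 ∣ Nat.card ↥(centralizer ({ψ (hw w1)} : Set G) ⊓ centralizer ({W0} : Set G) : Subgroup G) := by
  have := finite_H0
  have h1 : (zpowers τ ⊔ zpowers (hw wq)).map ψ ≤
      centralizer ({ψ (hw w1)} : Set G) ⊓ centralizer ({W0} : Set G) := by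
    rw [map_le_iff_le_comap, sup_le_iff, zpowers_le, zpowers_le]
    constructor
    · refine ⟨mem_centralizer_singleton_iff.2 ?_, mem_centralizer_singleton_iff.2 ?_⟩
      · rw [← map_mul, ← map_mul, τ_comm]
      · rw [hW, ← map_mul, ← map_mul, ← τ_comm (Cfsg.Agent.HN.Syl.a * τ)]
    · refine ⟨mem_centralizer_singleton_iff.2 ?_, mem_centralizer_singleton_iff.2 ?_⟩
      · rw [← map_mul, ← map_mul, q_comm]
      · have h2 : hw wq * (Cfsg.Agent.HN.Syl.a * τ) = Cfsg.Agent.HN.Syl.a * τ * hw wq := by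
          rw [← mul_assoc, q_comm_a, mul_assoc, τ_comm, ← mul_assoc]
        rw [hW, ← map_mul, ← map_mul, h2]
  have h8 : 8 ∣ Nat.card ↥(zpowers τ ⊔ zpowers (hw wq) : Subgroup H0) := by
    have ht : τ ∈ zpowers τ ⊔ zpowers (hw wq) := mem_sup_left (mem_zpowers _)
    have hq : hw wq ∈ zpowers τ ⊔ zpowers (hw wq) := mem_sup_right (mem_zpowers _)
    have h3 := mul_order_dvd (C := ↥(zpowers τ ⊔ zpowers (hw wq) : Subgroup H0)) (a := ⟨τ, ht⟩) (b := ⟨hw wq, hq⟩)
      (Subtype.ext (τ_comm _).symm)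
      (inf_eq_bot_of_prime Nat.prime_two (by rw [← Subgroup.orderOf_coe]; exact order_τ) (by
        intro h
        apply τ_not_mem
        obtain ⟨k, hk⟩ := mem_zpowers_iff.1 h
        exact mem_zpowers_iff.2 ⟨k, congrArg Subtype.val hk⟩))
    rw [← Subgroup.orderOf_coe, ← Subgroup.orderOf_coe] at h3
    change orderOf τ * orderOf (hw wq) ∣ _ at h3
    rw [order_τ, order_q] at h3
    exact h3
  have h9 := card_dvd_of_le h1
  rw [card_map_of_injective emb.inj] at h9
  exact h8.trans h9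

/-- `C(ψ w1)` has commuting involutions -/
theorem not_uInv : ¬ UInv ↥(centralizer ({ψ (hw w1)} : Set G)) := by
  intro h
  have : Fact (Nat.Prime 2) := ⟨Nat.prime_two⟩
  have hq2 : orderOf (hw wq ^ 2) = 2 := by
    apply orderOf_eq_prime _ q_sq_ne
    rw [← pow_mul]
    exact q_four
  have hqc : hw wq ^ 2 * hw w1 = hw w1 * hw wq ^ 2 := ((show Commute (hw wq) (hw w1) from q_comm).pow_left 2).eq
  have h1 := h ⟨ψ τ, mem_centralizer_singleton_iff.2 (by rw [← map_mul, ← map_mul, τ_comm])⟩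
    ⟨ψ (hw wq ^ 2), mem_centralizer_singleton_iff.2 (by rw [← map_mul, ← map_mul, hqc])⟩
    (by rw [Subgroup.orderOf_mk, orderOf_injective _ emb.inj, order_τ])
    (by rw [Subgroup.orderOf_mk, orderOf_injective _ emb.inj, hq2])
    (Subtype.ext (by
      change ψ τ * ψ (hw wq ^ 2) = ψ (hw wq ^ 2) * ψ τ
      rw [← map_mul, ← map_mul, τ_comm]))
  apply τ_not_mem
  rw [emb.inj (congrArg Subtype.val h1)]
  exact pow_mem (mem_zpowers _) 2

/-- `ψ w1` is of type II -/
theorem w1_two : ∃ y : PP, orderOf y = 5 ∧ ρ y = φA c5 * φB (c5 ^ 3) ∧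
    Nonempty (↥(centralizer ({ψ (hw w1)} : Set G)) ≃* ↥(centralizer ({(y : G)} : Set G))) := by
  let x : PP := ⟨ψ (hw w1), w1_PP⟩
  have hox : orderOf (ψ (hw w1)) = 5 := by rw [orderOf_injective _ emb.inj, order_w1]
  have hx : orderOf x = 5 := by rw [← Subgroup.orderOf_coe]; exact hox
  obtain ⟨g, m, hm1, hm5, h⟩ := conj_std hx
  let y : PP := g * x ^ m * g⁻¹
  have hy5 : orderOf y = 5 := by
    have h1 : orderOf (x ^ m) = 5 := by
      rw [orderOf_pow, hx]
      interval_cases m <;> rfl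
    rw [← h1]
    exact MulEquiv.orderOf_eq (MulAut.conj g) _
  have hy : (g : G) * ψ (hw w1) ^ m * (g : G)⁻¹ = (y : G) := rfl
  obtain ⟨e⟩ := cequiv_pow hox hm1 hm5 hy
  rcases h with h | h | h
  · exfalso
    have h1 := (CpAutTh.RankOne.uInv_of_unique (order_sx y) (unique_one h)).1
    apply not_uInv
    intro a b ha hb hab
    apply e.injective
    apply h1
    · rw [MulEquiv.orderOf_eq, ha]
    · rw [MulEquiv.orderOf_eq, hb]
    · rw [← map_mul, hab, map_mul]
  · exfalso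
    have h2 := card_three (x := y) h
    rw [card_pair] at h2
    have h3 : (centralizer ({ψ (hw w1)} : Set G) ⊓ centralizer ({W0} : Set G)).map (MulAut.conj (g : G)).toMonoidHom =
        centralizer ({(y : G)} : Set G) ⊓ centralizer ({W0} : Set G) := by
      have hgW : (g : G) * W0 * (g : G)⁻¹ = W0 := by rw [mem_PP.1 g.2, mul_inv_cancel_right]
      rw [Subgroup.map_inf _ _ _ (MulAut.conj (g : G)).injective, ← centralizer_pow hox hm1 hm5, map_centralizer,
        map_centralizer, hgW, hy]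
    rw [← h3] at h2
    rw [← Nat.card_congr ((centralizer ({ψ (hw w1)} : Set G) ⊓ centralizer ({W0} : Set G)).equivMapOfInjective
      (MulAut.conj (g : G)).toMonoidHom (MulAut.conj (g : G)).injective).toEquiv] at h2
    have h10 := eight_dvd.trans h2
    norm_num at h10
  · exact ⟨y, hy5, h, ⟨e⟩⟩

/-- a type II element with `125 ∣ |C(x)|` -/
theorem exists_two : ∃ x : PP, orderOf x = 5 ∧ ρ x = φA c5 * φB (c5 ^ 3) ∧
    5 ^ 3 ∣ Nat.card ↥(centralizer ({(x : G)} : Set G)) := by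
  obtain ⟨y, hy5, h, ⟨e⟩⟩ := w1_two
  refine ⟨y, hy5, h, ?_⟩
  have h20 : Nat.card ↥(centralizer ({ψ (hw w1)} : Set G)) = Nat.card ↥(centralizer ({(y : G)} : Set G)) :=
    Nat.card_congr e.toEquiv
  rw [← h20]
  exact dvd_ψw1

/-- a lift of `φB c5` commuting with `x` -/
theorem exists_B {x : PP} (hx : orderOf x = 5) (h : ρ x = φA c5) :
    ∃ z : PP, z ^ 5 = 1 ∧ ρ z = φB c5 ∧ z * x = x * z := by
  obtain ⟨g, hg⟩ := ρ_surj (φB c5)
  obtain ⟨q, hq, hqg⟩ := CpAutTh.RankOne.exists_comm Nat.prime_two Nat.prime_five (by norm_num) ρ isPGroup_ker hx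
    (g := g) (by rw [hg, h]; exact (comm_AB c5 c5).symm)
  have h1 : ρ (q * g) = φB c5 := by rw [map_mul, MonoidHom.mem_ker.1 hq, one_mul, hg]
  have h5 : (q * g) ^ 5 ∈ ρ.ker := by
    rw [MonoidHom.mem_ker, map_pow, h1, ← map_pow, c5_pow, map_one]
  obtain ⟨k, hk⟩ := isPGroup_ker ⟨_, h5⟩
  have hk' : ((q * g) ^ 5) ^ 2 ^ k = 1 := congrArg Subtype.val hk
  refine ⟨(q * g) ^ (16 ^ k), ?_, ?_, ?_⟩
  · rw [← pow_mul, mul_comm, pow_mul, show 16 ^ k = 2 ^ k * 8 ^ k by rw [← mul_pow]; norm_num, pow_mul, hk', one_pow]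
  · rw [map_pow, h1, ← map_pow]
    congr 1
    have h2 : 16 ^ k % 5 = 1 := by
      rw [Nat.pow_mod]
      norm_num
    rw [pow_mod5 c5_pow, h2, pow_one]
  · exact ((show Commute (q * g) x from hqg).pow_left _).eq

end Cfsg.Agent.BpSpor.HNFiveA
end

-- part: H513/NilpHN
section
prune_inst 0x1c0282000002000b00000000000004800c0100000620b000021201000024003a002000000009000000000000020041180080000020c00000a000000000008800000000000000000000000000000000000000000000000
set_option linter.all false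
open scoped Cfsg.Agent.FastGrp

-- part: H513/NilpHNAbs
section
/-!
# Row HN of S2242, abstract part (helper513)

* `pow_four_dvd` : an elementary abelian normal subgroup on which an extraspecial group `2 ^ {1+4}` acts with its centre
  inverting has order divisible by `p ^ 4`;
* `Ex s z T` : the situation in the centralizer of an element `z` of type II of `HN`;
* `Ex.exists_cr` : the structure `Cr`; `Ex.irr` : the irreducibility.
-/

set_option autoImplicit false
set_option linter.unusedSectionVars false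

namespace Cfsg.Agent.H513.NilpTools

open Subgroup
open Cfsg.Agent.H972 Cfsg.Agent.H972.NSm

universe u

section Four

variable {Q : Type u} [Group Q] [Finite Q]

theorem inv_iff {W : Subgroup Q} {s d w : Q} (hs : ∀ w ∈ W, s * w * s⁻¹ = w⁻¹) (hw : w ∈ W) :
    d * w * d⁻¹ = w⁻¹ ↔ (d * s) * w = w * (d * s) := by
  have h1 : (d * s) * w * (d * s)⁻¹ = (d * w * d⁻¹)⁻¹ := by
    calc (d * s) * w * (d * s)⁻¹ = d * (s * w * s⁻¹) * d⁻¹ := by group
      _ = d * w⁻¹ * d⁻¹ := by rw [hs w hw]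
      _ = _ := by group
  rw [← mul_inv_eq_iff_eq_mul, h1, inv_eq_iff_eq_inv]

theorem pow_four_dvd {p : ℕ} (hp : p.Prime) (hp2 : p ≠ 2) {W : Subgroup Q} [hWn : W.Normal]
    (hc : ∀ a ∈ W, ∀ b ∈ W, a * b = b * a) (hexp : ∀ w ∈ W, w ^ p = 1) (hW1 : W ≠ ⊥) {s d e i j : Q} (hss : s * s = 1)
    (hs : ∀ w ∈ W, s * w * s⁻¹ = w⁻¹) (hdd : d * d = 1) (hds : d * s = s * d) (hes : e * s = s * e)
    (hed : e * d = d * e * s) (hid : i * d = d * i) (hjd : j * d = d * j) (hij : i * j = j * i * s) :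
    p ^ 4 ∣ Nat.card ↥W := by
  classical
  have : Fact p.Prime := ⟨hp⟩
  have hpo : Odd p := hp.odd_of_ne_two hp2
  have hWp : IsPGroup p ↥W := fun a => ⟨1, Subtype.ext (by rw [pow_one]; exact hexp a a.2)⟩
  set P := W ⊓ centralizer ({d} : Set Q) with hP
  set M := W ⊓ centralizer ({d * s} : Set Q) with hM
  -- `|W| = |P| |M|`
  let f : ↥W →* ↥W := MonoidHom.mk' (fun w => ⟨(w : Q) * (d * w * d⁻¹), mul_mem w.2 (hWn.conj_mem w w.2 d)⟩) (by
    intro a b
    apply Subtype.ext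
    change (a : Q) * b * (d * (a * b) * d⁻¹) = a * (d * a * d⁻¹) * (b * (d * b * d⁻¹))
    have h1 : (b : Q) * (d * a * d⁻¹) = (d * a * d⁻¹) * b := hc _ b.2 _ (hWn.conj_mem _ a.2 d)
    calc (a : Q) * b * (d * (a * b) * d⁻¹) = a * (b * (d * a * d⁻¹)) * (d * b * d⁻¹) := by group
      _ = a * ((d * a * d⁻¹) * b) * (d * b * d⁻¹) := by rw [h1]
      _ = _ := by group)
  have hfv : ∀ w : ↥W, ((f w : ↥W) : Q) = (w : Q) * (d * w * d⁻¹) := fun w => rfl
  have hker : f.ker = M.subgroupOf W := by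
    ext w
    rw [MonoidHom.mem_ker, mem_subgroupOf]
    constructor
    · intro h
      have h1 : (w : Q) * (d * w * d⁻¹) = 1 := congrArg Subtype.val h
      refine ⟨w.2, mem_centralizer_singleton_iff.2 ?_⟩
      exact ((inv_iff hs w.2).1 (inv_eq_of_mul_eq_one_right h1).symm).symm
    · intro h
      apply Subtype.ext
      rw [hfv, (inv_iff (d := d) hs w.2).2 (mem_centralizer_singleton_iff.1 h.2).symm, mul_inv_cancel]
      rfl
  have hrange : f.range = P.subgroupOf W := by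
    apply le_antisymm
    · rintro _ ⟨w, rfl⟩
      rw [mem_subgroupOf]
      refine ⟨(f w).2, mem_centralizer_singleton_iff.2 ?_⟩
      rw [hfv]
      have h1 : (w : Q) * (d * w * d⁻¹) = (d * w * d⁻¹) * w := hc _ w.2 _ (hWn.conj_mem _ w.2 d)
      have hd' : d⁻¹ = d := inv_eq_of_mul_eq_one_right hdd
      rw [hd'] at h1 ⊢
      calc (w : Q) * (d * w * d) * d = (w : Q) * d * w * (d * d) := by group
        _ = (w : Q) * d * w := by rw [hdd, mul_one]
        _ = (d * d) * w * d * w := by rw [hdd, one_mul]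
        _ = d * ((d * w * d) * w) := by group
        _ = d * (w * (d * w * d)) := by rw [h1]
    · intro w hw
      rw [mem_subgroupOf] at hw
      have h1 : d * (w : Q) * d⁻¹ = w := by
        rw [← mem_centralizer_singleton_iff.1 hw.2, mul_inv_cancel_right]
      obtain ⟨k, hk⟩ := hpo
      refine ⟨w ^ (k + 1), ?_⟩
      apply Subtype.ext
      rw [hfv]
      have h2 : d * ((w ^ (k + 1) : ↥W) : Q) * d⁻¹ = (w : Q) ^ (k + 1) := by
        rw [Subgroup.coe_pow, ← conj_pow, h1]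
      rw [h2, Subgroup.coe_pow, ← pow_add]
      have h3 : k + 1 + (k + 1) = p + 1 := by omega
      rw [h3, pow_succ, hexp _ w.2, one_mul]
  have hcard : Nat.card ↥W = Nat.card ↥P * Nat.card ↥M := by
    have h1 := Subgroup.card_mul_index f.ker
    rw [Subgroup.index_ker, hker, hrange, Nat.card_congr (Subgroup.subgroupOfEquivOfLe (inf_le_left : P ≤ W)).toEquiv,
      Nat.card_congr (Subgroup.subgroupOfEquivOfLe (inf_le_left : M ≤ W)).toEquiv] at h1
    rw [← h1, mul_comm]
  -- `|P| = |M|`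
  have hPM : P.map (MulAut.conj e).toMonoidHom ≤ M := by
    rintro _ ⟨w, hw, rfl⟩
    refine ⟨hWn.conj_mem w hw.1 e, mem_centralizer_singleton_iff.2 ?_⟩
    change e * w * e⁻¹ * (d * s) = d * s * (e * w * e⁻¹)
    have h1 : w * d = d * w := mem_centralizer_singleton_iff.1 hw.2
    have h2 : d * s = e * d * e⁻¹ := by
      rw [hed, mul_assoc d e s, hes]
      group
    rw [h2]
    calc e * w * e⁻¹ * (e * d * e⁻¹) = e * (w * d) * e⁻¹ := by group
      _ = e * (d * w) * e⁻¹ := by rw [h1]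
      _ = _ := by group
  have hMP : M.map (MulAut.conj e).toMonoidHom ≤ P := by
    rintro _ ⟨w, hw, rfl⟩
    refine ⟨hWn.conj_mem w hw.1 e, mem_centralizer_singleton_iff.2 ?_⟩
    change e * w * e⁻¹ * d = d * (e * w * e⁻¹)
    have h1 : w * (d * s) = d * s * w := mem_centralizer_singleton_iff.1 hw.2
    have h2 : d = e * (d * s) * e⁻¹ := by
      have h3 : e * (d * s) = d * e := by
        rw [← mul_assoc, hed, mul_assoc, hss, mul_one]
      rw [h3]
      group
    rw [h2]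
    calc e * w * e⁻¹ * (e * (d * s) * e⁻¹) = e * (w * (d * s)) * e⁻¹ := by group
      _ = e * (d * s * w) * e⁻¹ := by rw [h1]
      _ = _ := by group
  have hPM' : Nat.card ↥P = Nat.card ↥M := by
    have h1 := Nat.le_of_dvd Nat.card_pos (card_dvd_of_le hPM)
    have h2 := Nat.le_of_dvd Nat.card_pos (card_dvd_of_le hMP)
    rw [card_map_of_injective (MulAut.conj e).injective] at h1 h2
    exact le_antisymm h1 h2
  rw [← hPM'] at hcard
  have hPp : IsPGroup p ↥P := hWp.to_le inf_le_left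
  obtain ⟨k, hk⟩ := IsPGroup.iff_card.1 hPp
  rw [hcard, hk, ← pow_add]
  refine pow_dvd_pow p ?_
  by_contra hlt
  have hk1 : k = 0 ∨ k = 1 := by omega
  rcases hk1 with rfl | rfl
  · rw [pow_zero] at hk
    rw [hk, mul_one] at hcard
    exact hW1 (Subgroup.card_eq_one.1 hcard)
  · rw [pow_one] at hk
    -- the action of `C(d)`
    set C := centralizer ({d} : Set Q) with hC
    let P' : Subgroup ↥C := W.subgroupOf C
    have hP'n : P'.Normal := inferInstance
    have hP'card : Nat.card ↥P' = p := by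
      have h1 : Nat.card ↥(W.subgroupOf C) = Nat.card ↥P := by
        rw [hP, ← Subgroup.inf_subgroupOf_right]
        exact Nat.card_congr (Subgroup.subgroupOfEquivOfLe inf_le_right).toEquiv
      rw [h1, hk]
    have hcyc : IsCyclic ↥P' := isCyclic_of_prime_card hP'card
    let i' : ↥C := ⟨i, mem_centralizer_singleton_iff.2 hid⟩
    let j' : ↥C := ⟨j, mem_centralizer_singleton_iff.2 hjd⟩
    let s' : ↥C := ⟨s, mem_centralizer_singleton_iff.2 hds.symm⟩
    have h1 : i' * j' = j' * i' * s' := Subtype.ext hij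
    let ψ : ↥C →* (ZMod (Nat.card ↥P'))ˣ :=
      (IsCyclic.mulAutMulEquiv ↥P').toMonoidHom.comp (MulAut.conjNormal : ↥C →* MulAut ↥P')
    have h2 : ψ s' = 1 := by
      have h3 := congrArg ψ h1
      rw [map_mul, map_mul, map_mul, mul_comm (ψ i') (ψ j')] at h3
      exact (mul_eq_left.1 h3.symm)
    have h3 : (MulAut.conjNormal s' : MulAut ↥P') = 1 := by
      apply (IsCyclic.mulAutMulEquiv ↥P').injective
      rw [map_one]
      exact h2
    obtain ⟨w, hw⟩ : ∃ w : ↥P', w ≠ 1 := by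
      by_contra hcon
      push Not at hcon
      have h4 : Nat.card ↥P' = 1 := Nat.card_eq_one_iff_unique.2 ⟨⟨fun a b => by rw [hcon a, hcon b]⟩, ⟨1⟩⟩
      rw [hP'card] at h4
      exact hp.one_lt.ne' h4
    have h4 : ((MulAut.conjNormal s' : MulAut ↥P') w : ↥C) = w := by
      rw [h3]; rfl
    rw [MulAut.conjNormal_apply] at h4
    have h5 : s * ((w : ↥C) : Q) * s⁻¹ = (w : ↥C) := congrArg Subtype.val h4
    have hwW : ((w : ↥C) : Q) ∈ W := mem_subgroupOf.1 w.2
    rw [hs _ hwW] at h5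
    apply hw
    apply Subtype.ext
    apply Subtype.ext
    refine ThFive.eq_one_of_sq_odd hpo ?_ (hexp _ hwW)
    nth_rewrite 1 [← h5]
    exact inv_mul_cancel _

end Four

section Ex

variable {H : Type u} [Group H] [Finite H]

theorem Cr.mem_of_inv {s z : H} {p : ℕ} {N : Subgroup H} (h : Cr s z p N) {v : H} (hv : s * v * s⁻¹ = v⁻¹) {m : ℕ}
    (hm : Odd m) (h1 : v ^ m = 1) : v ∈ N := by
  have hn := h.normal
  refine ThFive.odd_pow_mem hm ?_ h1
  have h2 : v ∈ N ⊔ centralizer ({s} : Set H) := by rw [h.sup]; exact mem_top v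
  obtain ⟨n, hn', c, hc, rfl⟩ := mem_sup_of_normal_left.1 h2
  have h3 : c * s = s * c := mem_centralizer_singleton_iff.1 hc
  have h4 : ((n * c) ^ 2)⁻¹ = (s * n * s⁻¹) * n⁻¹ := by
    calc ((n * c) ^ 2)⁻¹ = (n * c)⁻¹ * (n * c)⁻¹ := by rw [pow_two, mul_inv_rev]
      _ = s * (n * c) * s⁻¹ * (n * c)⁻¹ := by rw [hv]
      _ = s * n * (c * s⁻¹) * c⁻¹ * n⁻¹ := by group
      _ = s * n * s⁻¹ * n⁻¹ := by
        have h5 : c * s⁻¹ = s⁻¹ * c := by
          calc c * s⁻¹ = s⁻¹ * (s * c) * s⁻¹ := by group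
            _ = s⁻¹ * c := by rw [← h3]; group
        rw [h5]
        group
  have h5 : ((n * c) ^ 2)⁻¹ ∈ N := by
    rw [h4]
    exact mul_mem (hn.conj_mem n hn' s) (inv_mem hn')
  exact inv_mem_iff.1 h5

/-- the situation in the centralizer of an element of type II of `HN` -/
structure Ex (s z : H) (T : Subgroup H) : Prop where
  os : orderOf s = 2
  cen : z ∈ center H
  oz : orderOf z = 5
  T2 : IsPGroup 2 ↥T
  all : ∀ (u : H) (k : ℕ), u ^ 2 ^ k = 1 → u * s = s * u → u ∈ T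
  ts : ∀ t ∈ T, t * s = s * t
  comm : ∀ a ∈ T, ∀ b ∈ T, a * b = b * a ∨ a * b = b * a * s
  cent : ∀ c ∈ T, (∀ t ∈ T, c * t = t * c) → c = 1 ∨ c = s
  nc : ∀ t ∈ T, orderOf t = 2 → t ≠ s → ∃ a ∈ T, ∃ b ∈ T, a * t = t * a ∧ b * t = t * b ∧ a * b ≠ b * a
  inv : ∃ d ∈ T, orderOf d = 2 ∧ d ≠ s
  odd : ∀ K : Subgroup ↥(centralizer ({s} : Set H)), K.Normal → Odd (Nat.card ↥K) → Nat.card ↥K ∣ 5

namespace Ex

variable {s z : H} {T : Subgroup H} (h : Ex s z T)
include h

theorem ss : s * s = 1 := by rw [← pow_two, ← h.os, pow_orderOf_eq_one]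

theorem s1 : s ≠ 1 := by
  intro e
  have h1 := h.os
  rw [e, orderOf_one] at h1
  norm_num at h1

theorem z_comm (g : H) : g * z = z * g := mem_center_iff.1 h.cen g

theorem exists_cr : ∃ N, Cr s z 5 N := by
  have : Fact (Nat.Prime 2) := ⟨Nat.prime_two⟩
  obtain ⟨N0, hN0, hodd0, hsup0⟩ := CpAutHNFive.exists_odd_sup_of_iso h.os
    (CpAutHNFive.iso_of_extra h.os T h.all h.T2 h.comm h.nc)
  have hZ : (zpowers z).Normal := by
    refine ⟨fun x hx g => ?_⟩
    rw [mem_center_iff.1 ((zpowers_le.2 h.cen) hx) g, mul_inv_cancel_right]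
    exact hx
  have hoddN : Odd (Nat.card ↥(N0 ⊔ zpowers z)) := by
    have h1 : Nat.card ↥N0 * N0.relIndex (N0 ⊔ zpowers z) = Nat.card ↥(N0 ⊔ zpowers z) := by
      rw [← relIndex_bot_left, ← relIndex_bot_left]
      exact relIndex_mul_relIndex ⊥ N0 _ bot_le le_sup_left
    rw [← h1]
    refine hodd0.mul ?_
    rw [sup_comm, relIndex_sup_right]
    refine Odd.of_dvd_nat (by decide : Odd 5) ?_
    rw [← h.oz, ← Nat.card_zpowers]
    exact relIndex_dvd_card _ _
  set N := N0 ⊔ zpowers z with hN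
  have hNn : N.Normal := inferInstance
  have hzC : z ∈ centralizer ({s} : Set H) := mem_centralizer_singleton_iff.2 (h.z_comm s).symm
  refine ⟨N, { prime := Nat.prime_five, ne_two := by norm_num, ss := h.ss, s1 := h.s1, cen := h.cen, oz := h.oz,
               normal := hNn, oddN := hoddN, zN := mem_sup_right (mem_zpowers z), sup := ?_, inf := ?_ }⟩
  · rw [eq_top_iff, ← hsup0]
    exact sup_le_sup_right le_sup_left _
  · have h1 : (N.subgroupOf (centralizer ({s} : Set H))).Normal := inferInstance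
    have h2 : Odd (Nat.card ↥(N.subgroupOf (centralizer ({s} : Set H)))) := by
      refine Odd.of_dvd_nat hoddN ?_
      have e := (N.subgroupOf (centralizer ({s} : Set H))).equivMapOfInjective (centralizer ({s} : Set H)).subtype
        (centralizer ({s} : Set H)).subtype_injective
      rw [Nat.card_congr e.toEquiv, subgroupOf_map_subtype]
      exact card_dvd_of_le inf_le_left
    have h3 := h.odd _ h1 h2
    have h4 : zpowers (⟨z, hzC⟩ : ↥(centralizer ({s} : Set H))) ≤ N.subgroupOf (centralizer ({s} : Set H)) :=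
      zpowers_le.2 (mem_subgroupOf.2 (mem_sup_right (mem_zpowers z)))
    have h5 : zpowers (⟨z, hzC⟩ : ↥(centralizer ({s} : Set H))) = N.subgroupOf (centralizer ({s} : Set H)) := by
      refine eq_of_le_of_card_ge h4 ?_
      rw [Nat.card_zpowers, Subgroup.orderOf_mk, h.oz]
      exact Nat.le_of_dvd (by norm_num) h3
    rintro n ⟨hn, hnC⟩
    have h6 : (⟨n, hnC⟩ : ↥(centralizer ({s} : Set H))) ∈ zpowers (⟨z, hzC⟩ : ↥(centralizer ({s} : Set H))) := by
      rw [h5]
      exact mem_subgroupOf.2 hn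
    obtain ⟨k, hk⟩ := mem_zpowers_iff.1 h6
    exact mem_zpowers_iff.2 ⟨k, congrArg Subtype.val hk⟩

/-- two elements with commutator `s` -/
theorem exists_comm {t : H} (ht : t ∈ T) (ht2 : orderOf t = 2) (hts : t ≠ s) :
    ∃ a ∈ T, ∃ b ∈ T, a * t = t * a ∧ b * t = t * b ∧ a * b = b * a * s := by
  obtain ⟨a, ha, b, hb, h1, h2, h3⟩ := h.nc t ht ht2 hts
  exact ⟨a, ha, b, hb, h1, h2, (h.comm a ha b hb).resolve_left h3⟩

theorem s_mem_commutator : s ∈ commutator H := by
  obtain ⟨d, hd, hd2, hds⟩ := h.inv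
  obtain ⟨a, ha, b, hb, -, -, hab⟩ := h.exists_comm hd hd2 hds
  have h1 := Subgroup.commutator_mem_commutator (G := H) (H₁ := ⊤) (H₂ := ⊤) (g₁ := a⁻¹) (g₂ := b⁻¹)
    (mem_top _) (mem_top _)
  have h2 : a⁻¹ * b⁻¹ * a⁻¹⁻¹ * b⁻¹⁻¹ = s := by
    rw [inv_inv, inv_inv]
    calc a⁻¹ * b⁻¹ * a * b = (b * a)⁻¹ * (a * b) := by group
      _ = (b * a)⁻¹ * (b * a * s) := by rw [hab]
      _ = s := by group
  rw [← h2, _root_.commutator_def]
  exact h1

theorem irr {N : Subgroup H} (hcr : Cr s z 5 N) [hZ : (zpowers z).Normal] :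
    ∀ W : Subgroup (H ⧸ zpowers z), W.Normal → W ≤ N.map (QuotientGroup.mk' (zpowers z)) → (∀ w ∈ W, w ^ 5 = 1) →
      W ≠ ⊥ → 5 ^ 4 ∣ Nat.card ↥W := by
  intro W hWn hWN hW5 hW1
  obtain ⟨d, hd, hd2, hds⟩ := h.inv
  obtain ⟨a, ha, b, hb, had, hbd, hab⟩ := h.exists_comm hd hd2 hds
  obtain ⟨e, he, hed⟩ : ∃ e ∈ T, e * d ≠ d * e := by
    by_contra hcon
    push Not at hcon
    rcases h.cent d hd (fun t ht => (hcon t ht).symm) with h1 | h1
    · rw [h1, orderOf_one] at hd2
      norm_num at hd2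
    · exact hds h1
  have hed' := (h.comm e he d hd).resolve_left hed
  have hdd : d * d = 1 := by rw [← pow_two, ← hd2, pow_orderOf_eq_one]
  obtain ⟨hinv, hcomm⟩ := hcr.quot
  set π := QuotientGroup.mk' (zpowers z) with hπ
  refine pow_four_dvd Nat.prime_five (by norm_num) (W := W) (fun a ha b hb => hcomm a (hWN ha) b (hWN hb)) hW5 hW1
    (s := π s) (d := π d) (e := π e) (i := π a) (j := π b) ?_ (fun w hw => hinv w (hWN hw)) ?_ ?_ ?_ ?_ ?_ ?_ ?_
  · rw [← map_mul, h.ss, map_one]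
  · rw [← map_mul, hdd, map_one]
  · rw [← map_mul, ← map_mul, h.ts d hd]
  · rw [← map_mul, ← map_mul, h.ts e he]
  · rw [← map_mul, ← map_mul, ← map_mul, hed']
  · rw [← map_mul, ← map_mul, had]
  · rw [← map_mul, ← map_mul, hbd]
  · rw [← map_mul, ← map_mul, ← map_mul, hab]

end Ex

end Ex

end Cfsg.Agent.H513.NilpTools
end

-- part: H513/NilpHNEx
section
/-!
# Row HN of S2242: the centralizer of an element of type II (helper513)

* `ex_two` : the structure `Ex` for `C(x)`, `x` of type II;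
* `exists_data` : an element of type II with two noncommuting elements of order 5 of `C(x)` inverted by `W0`.
-/

set_option autoImplicit false
set_option maxRecDepth 100000
set_option linter.unusedSectionVars false

namespace Cfsg.Agent.H513.NilpHN

section Inv

open Subgroup

universe u

/-- an involution `≠ z` -/
theorem exists_inv_ne {G : Type u} [Group G] [Finite G] {T : Subgroup G} {z : G} (hz : z * z = 1)
    (hzc : ∀ t ∈ T, t * z = z * t) (hcomm : ∀ a ∈ T, ∀ b ∈ T, a * b = b * a ∨ a * b = b * a * z)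
    (hsq : ∀ a ∈ T, a * a = 1 ∨ a * a = z) (hcard : 8 < Nat.card ↥T) : ∃ d ∈ T, orderOf d = 2 ∧ d ≠ z := by
  have h2F : Fact (Nat.Prime 2) := ⟨Nat.prime_two⟩
  obtain ⟨a, ha, ha1, haz⟩ : ∃ a ∈ T, a ≠ 1 ∧ a ≠ z := by
    by_contra hcon
    push Not at hcon
    have h1 : T ≤ zpowers z := by
      intro t ht
      by_cases h : t = 1
      · rw [h]; exact one_mem _
      · rw [hcon t ht h]; exact mem_zpowers z
    have h2 := Nat.le_of_dvd Nat.card_pos (card_dvd_of_le h1)
    rw [Nat.card_zpowers] at h2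
    have h3 : orderOf z ≤ 2 := orderOf_le_of_pow_eq_one (by norm_num) (by rw [pow_two]; exact hz)
    omega
  rcases hsq a ha with h | h
  · exact ⟨a, ha, orderOf_eq_prime (by rw [pow_two]; exact h) ha1, haz⟩
  · have h1 := CpAutHNFive.card_le_two_mul (K := T) (z := z) (x := a) hz hzc (fun t ht => hcomm a ha t ht)
    obtain ⟨b, hb, hba⟩ : ∃ b ∈ T ⊓ centralizer ({a} : Set G), b ∉ zpowers a := by
      by_contra hcon
      push Not at hcon
      have h2 := Nat.le_of_dvd Nat.card_pos (card_dvd_of_le (show T ⊓ centralizer ({a} : Set G) ≤ zpowers a from hcon))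
      rw [Nat.card_zpowers] at h2
      have h3 : orderOf a ≤ 4 := orderOf_le_of_pow_eq_one (by norm_num) (by
        rw [show (4 : ℕ) = 2 * 2 from rfl, pow_mul, pow_two a, h, pow_two, hz])
      omega
    have hab : b * a = a * b := mem_centralizer_singleton_iff.1 hb.2
    have hza : z ∈ zpowers a := by
      rw [← h]
      exact mul_mem (mem_zpowers a) (mem_zpowers a)
    rcases hsq b hb.1 with h4 | h4
    · refine ⟨b, hb.1, orderOf_eq_prime (by rw [pow_two]; exact h4) ?_, ?_⟩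
      · intro h5
        exact hba (h5 ▸ one_mem _)
      · intro h5
        exact hba (h5 ▸ hza)
    · refine ⟨a * b, mul_mem ha hb.1, orderOf_eq_prime ?_ ?_, ?_⟩
      · rw [pow_two]
        calc a * b * (a * b) = a * (b * a) * b := by group
          _ = (a * a) * (b * b) := by rw [hab]; group
          _ = 1 := by rw [h, h4, hz]
      · intro h5
        apply hba
        rw [← inv_eq_of_mul_eq_one_right h5]
        exact inv_mem (mem_zpowers a)
      · intro h5
        apply hba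
        have h6 : b = a⁻¹ * z := by rw [← h5]; group
        rw [h6]
        exact mul_mem (inv_mem (mem_zpowers a)) hza

end Inv

section Two

open Cfsg.Agent.HN Cfsg.Agent.HN.Pres Cfsg.Agent.HN.P1408 Cfsg.Agent.HN.H0Basic Cfsg.Agent.HN.XMat
open Cfsg.Agent.HN.XStruct Cfsg.Agent.HN.XWords Cfsg.Agent.HN.XQuot Cfsg.Agent.HN.XInst
open Cfsg.Agent
open Cfsg.Agent.KFacts.HN
open Cfsg.Agent.CpAutHN.PPFacts (isPGroup_ker acts_of_ρ app_eq_of_comm mem_ker_iff sgn0_cases)
open Cfsg.Agent.CpAutHNFive Cfsg.Agent.CpAutHNFive.LFive Cfsg.Agent.CpAutHNFive.PFive Cfsg.Agent.CpAutHNFive.TFive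
open Cfsg.Agent.SporadicA.PermTab (band_eq_true allB allB_iff)
open Cfsg.Agent.H513.NilpTools
open Subgroup

/-- the word of `φA (c5 ^ i) φB (c5 ^ j)` -/
def wij (i j : ℕ) : List ℕ := CpAutHNFive.HTab.rp i vA ++ CpAutHNFive.HTab.rp j vB

theorem e_rp (n : ℕ) (w : List ℕ) : e (CpAutHNFive.HTab.rp n w) = e w ^ n := by
  induction n with
  | zero => rw [pow_zero]; exact e_nil
  | succ n ih =>
    have h : CpAutHNFive.HTab.rp (n + 1) w = w ++ CpAutHNFive.HTab.rp n w := rfl
    rw [h, e_append, ih, pow_succ']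

theorem e_wij (i j : ℕ) : φA (c5 ^ i) * φB (c5 ^ j) = e (wij i j) := by
  rw [wij, e_append, e_rp, e_rp, map_pow, map_pow, φA_c5, φB_c5]
  rfl

/-- the elements of `5 × 5` fixing the masks -/
theorem chk : allB (fun i => allB (fun j => !(fixC.all fun m => Nat.beq (app (mw (wij i j)) m) m) ||
    Nat.beq j (3 * i % 5)) 5) 5 = true := by decide +kernel

theorem eq_of_fix {i j : ℕ} (hi : i < 5) (hj : j < 5) (h : ∀ m ∈ fixC, app (mw (wij i j)) m = m) : j = 3 * i % 5 := by
  have h1 := (allB_iff _ _).1 ((allB_iff _ _).1 chk i hi) j hj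
  have h2 : (fixC.all fun m => Nat.beq (app (mw (wij i j)) m) m) = true := by
    rw [List.all_eq_true]
    intro m hm
    rw [h m hm, Nat.beq_refl]
  rw [h2, Bool.not_true, Bool.false_or] at h1
  exact Nat.eq_of_beq_eq_true h1

theorem pow_mod {a : A5} (h : a ^ 5 = 1) (i : ℕ) : a ^ i = a ^ (i % 5) := by
  conv_lhs => rw [← Nat.div_add_mod i 5, pow_add, pow_mul, h, one_pow, one_mul]

/-- elements of `C(W0) ∩ C(x)` commuting with the elements of `R` commuting with `x` -/
theorem ρ_mem {x u : PP} (hx5 : x ^ 5 = 1) (hx : ρ x = φA c5 * φB (c5 ^ 3)) (hu : u * x = x * u)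
    (hc : ∀ m ∈ fixC, (u : Cfsg.Spor.HN) * r Q m = r Q m * u) : ρ u ∈ zpowers (ρ x) := by
  have h1 : ρ u * (φA c5 * φB (c5 ^ 3)) = φA c5 * φB (c5 ^ 3) * ρ u := by rw [← hx, ← map_mul, hu, map_mul]
  obtain ⟨i, j, hij⟩ := exists_pow (mem_LL_of_comm h1) (Or.inr rfl) h1
  rw [pow_mod c5_pow i, pow_mod c5_pow j] at hij
  have hi : i % 5 < 5 := Nat.mod_lt _ (by norm_num)
  have hj : j % 5 < 5 := Nat.mod_lt _ (by norm_num)
  set i' := i % 5
  set j' := j % 5
  have h2 : j' = 3 * i' % 5 := by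
    refine eq_of_fix hi hj fun m hm => ?_
    have hm1 := (mem_fixC.1 hm).1
    refine app_eq_of_comm (x := u) (v := ⟨r Q m, r_mem_PP m⟩) (hij.trans (e_wij i' j')) hm1 (c := false)
      (mul_one _).symm ?_
    exact Subtype.ext (hc m hm).symm
  rw [mem_zpowers_iff]
  refine ⟨(i' : ℤ), ?_⟩
  have h3 : c5 ^ (3 * i' % 5) = c5 ^ (3 * i') := (pow_mod c5_pow _).symm
  rw [zpow_natCast, hx, pow_AB, ← pow_mul, hij, h2, h3]

/-- **the centralizer of an element of type II** -/
theorem ex_two {x : PP} (hx : orderOf x = 5) (h : ρ x = φA c5 * φB (c5 ^ 3)) :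
    Ex (sx x) (⟨(x : G), mem_centralizer_singleton_iff.2 rfl⟩ : ↥(centralizer ({(x : G)} : Set G)))
      (RS.subgroupOf (centralizer ({(x : G)} : Set G))) := by
  have h5 : x ^ 5 = 1 := by rw [← hx, pow_orderOf_eq_one]
  have hxc : ∀ c : G, c ∈ RS → c * W0 = W0 * c := fun c hc => mem_PP.1 (RS_le_PP hc)
  have hxW : (x : G) * W0 = W0 * x := mem_PP.1 x.2
  have hz2 : W0 * W0 = 1 := W0_sq
  have hall : ∀ (u : ↥(centralizer ({(x : G)} : Set G))) (k : ℕ), u ^ 2 ^ k = 1 → u * sx x = sx x * u →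
      u ∈ RS.subgroupOf (centralizer ({(x : G)} : Set G)) := by
    intro u k hk hu
    obtain ⟨v, hvu, hvx⟩ := comm_elt hu
    have h1 : v ^ 2 ^ k = 1 := by
      apply Subtype.ext
      change (v : G) ^ 2 ^ k = 1
      rw [hvu]
      exact congrArg Subtype.val hk
    have h2 := ρ_two h hvx h1
    rw [mem_subgroupOf, ← hvu]
    exact ⟨v, h2, rfl⟩
  have hT2 : IsPGroup 2 ↥(RS.subgroupOf (centralizer ({(x : G)} : Set G))) := by
    intro u
    obtain ⟨k, hk⟩ := RS_isPGroup ⟨((u : ↥(centralizer ({(x : G)} : Set G))) : G), mem_subgroupOf.1 u.2⟩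
    refine ⟨k, Subtype.ext (Subtype.ext ?_)⟩
    have h0 := congrArg Subtype.val hk
    exact h0
  have hcent : ∀ c ∈ RS ⊓ centralizer ({(x : G)} : Set G),
      (∀ t ∈ RS ⊓ centralizer ({(x : G)} : Set G), c * t = t * c) → c = 1 ∨ c = W0 := by
    intro c hc hcT
    refine large.cent c hc.1 fun y hy => ?_
    refine comm_of_norm (R := RS) (z := W0) (x := (x : G)) order_W0 hxc hxW (congrArg Subtype.val h5)
      (fun r hr => conj_RS x.2 hr) large.comm hc.1 (mem_centralizer_singleton_iff.1 hc.2) ?_ hy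
    intro d hd hdx
    exact hcT d ⟨hd, mem_centralizer_singleton_iff.2 hdx⟩
  refine ⟨order_sx x, ?_, ?_, hT2, hall, ?_, ?_, ?_, ?_, ?_, ?_⟩
  · exact mem_center_iff.2 fun g => Subtype.ext (mem_centralizer_singleton_iff.1 g.2)
  · rw [Subgroup.orderOf_mk, Subgroup.orderOf_coe]
    exact hx
  · intro t ht
    exact Subtype.ext (hxc _ (mem_subgroupOf.1 ht))
  · intro a ha b hb
    rcases large.comm a (mem_subgroupOf.1 ha) b (mem_subgroupOf.1 hb) with h1 | h1
    · exact Or.inl (Subtype.ext h1)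
    · exact Or.inr (Subtype.ext h1)
  · intro c hc hcT
    rcases hcent (c : G) ⟨mem_subgroupOf.1 hc, c.2⟩ (fun t ht =>
      congrArg Subtype.val (hcT ⟨t, ht.2⟩ (mem_subgroupOf.2 ht.1))) with h1 | h1
    · exact Or.inl (Subtype.ext h1)
    · exact Or.inr (Subtype.ext h1)
  · intro s hs hs2 hsz
    obtain ⟨a, ha, b, hb, h1, h2, h3⟩ := CpAutHNFive.exists_not_comm (G := G)
      (T := RS ⊓ centralizer ({(x : G)} : Set G)) (z := W0) (s := (s : G)) hz2 (fun t ht => hxc t ht.1)
      (fun a ha b hb => large.comm a ha.1 b hb.1) hcent (card_two h5 h)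
      ⟨mem_subgroupOf.1 hs, s.2⟩ (sq_of_order hs2).2 (fun h => hsz (Subtype.ext h))
    refine ⟨⟨a, ha.2⟩, mem_subgroupOf.2 ha.1, ⟨b, hb.2⟩, mem_subgroupOf.2 hb.1, Subtype.ext h1, Subtype.ext h2, ?_⟩
    intro h4
    exact h3 (congrArg Subtype.val h4)
  · obtain ⟨d, hd, hd2, hdz⟩ := exists_inv_ne (T := RS ⊓ centralizer ({(x : G)} : Set G)) (z := W0)
      hz2 (fun t ht => hxc t ht.1)
      (fun a ha b hb => large.comm a ha.1 b hb.1) (fun a ha => large.sq a ha.1) (card_two h5 h)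
    refine ⟨⟨d, hd.2⟩, mem_subgroupOf.2 hd.1, by rw [Subgroup.orderOf_mk]; exact hd2, fun h => hdz ?_⟩
    exact congrArg Subtype.val h
  · intro K hKn hKo
    -- the elements of `K` commute with `R ∩ C(x)`
    have hKR : ∀ u ∈ K, ∀ m ∈ fixC, (toPP x u : G) * r Q m = r Q m * (toPP x u : G) := by
      intro u hu m hm
      have hm1 := (mem_fixC.1 hm).1
      have hmx := comm_of_fix h5 h hm
      let t : ↥(centralizer ({sx x} : Set ↥(centralizer ({(x : G)} : Set G)))) :=
        ⟨⟨r Q m, mem_centralizer_singleton_iff.2 hmx⟩, mem_centralizer_singleton_iff.2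
          (Subtype.ext (hxc _ (r_mem_RS hm1)))⟩
      have h1 : u * t * u⁻¹ * t⁻¹ ∈ K := by
        have h2 := mul_mem hu (hKn.conj_mem _ (inv_mem hu) t)
        have h3 : u * (t * u⁻¹ * t⁻¹) = u * t * u⁻¹ * t⁻¹ := by group
        rwa [h3] at h2
      have h2 : (((u * t * u⁻¹ * t⁻¹ : ↥(centralizer ({sx x} : Set ↥(centralizer ({(x : G)} : Set G))))) :
          ↥(centralizer ({(x : G)} : Set G))) : G) ∈ RS := by
        have h3 : (toPP x u : G) * r Q m * (toPP x u : G)⁻¹ ∈ RS := conj_RS (toPP x u).2 (r_mem_RS hm1)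
        exact mul_mem h3 (inv_mem (r_mem_RS hm1))
      have h3 : (u * t * u⁻¹ * t⁻¹) = 1 := by
        obtain ⟨k, hk⟩ := RS_isPGroup ⟨_, h2⟩
        have hk' : (u * t * u⁻¹ * t⁻¹) ^ 2 ^ k = 1 := by
          apply Subtype.ext
          apply Subtype.ext
          have h0 := congrArg Subtype.val hk
          exact h0
        have h4 : (u * t * u⁻¹ * t⁻¹) ^ Nat.card ↥K = 1 :=
          congrArg Subtype.val (pow_card_eq_one' (x := (⟨_, h1⟩ : ↥K)))
        have h6 := pow_gcd_eq_one.2 ⟨hk', h4⟩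
        have h7 : Nat.gcd (2 ^ k) (Nat.card ↥K) = 1 := Nat.Coprime.pow_left k (Nat.coprime_two_left.2 hKo)
        rwa [h7, pow_one] at h6
      have h4 : u * t = t * u := by
        calc u * t = (u * t * u⁻¹ * t⁻¹) * (t * u) := by group
          _ = t * u := by rw [h3, one_mul]
      exact congrArg (fun v : ↥(centralizer ({sx x} : Set ↥(centralizer ({(x : G)} : Set G)))) =>
        ((v : ↥(centralizer ({(x : G)} : Set G))) : G)) h4
    let f : ↥K →* Lq := (fC x).comp K.subtype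
    have hfinj : Function.Injective f := by
      rw [injective_iff_map_eq_one]
      intro u hu
      have h1 : (u : ↥(centralizer ({sx x} : Set ↥(centralizer ({(x : G)} : Set G))))) ∈ (fC x).ker := hu
      obtain ⟨k, hk⟩ := ker_two x ⟨_, h1⟩
      have hk' : (u : ↥(centralizer ({sx x} : Set ↥(centralizer ({(x : G)} : Set G))))) ^ 2 ^ k = 1 :=
        congrArg Subtype.val hk
      have hk2 : u ^ 2 ^ k = 1 := Subtype.ext hk'
      have h4 : u ^ Nat.card ↥K = 1 := pow_card_eq_one'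
      have h6 := pow_gcd_eq_one.2 ⟨hk2, h4⟩
      have h7 : Nat.gcd (2 ^ k) (Nat.card ↥K) = 1 := Nat.Coprime.pow_left k (Nat.coprime_two_left.2 hKo)
      rwa [h7, pow_one] at h6
    have hfr : f.range ≤ zpowers (ρ x) := by
      rintro _ ⟨u, rfl⟩
      exact ρ_mem h5 h (toPP_comm x u) (hKR u u.2)
    have h1 : Nat.card ↥f.range ∣ 5 := by
      have h2 := card_dvd_of_le hfr
      rw [Nat.card_zpowers] at h2
      refine h2.trans (orderOf_dvd_of_pow_eq_one ?_)
      rw [← map_pow, h5, map_one]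
    rwa [← Nat.card_congr (MonoidHom.ofInjective hfinj).toEquiv] at h1

/-- `25 ∣ |C(x) ∩ C(W0)|` -/
theorem dvd_card {x : PP} (hx : orderOf x = 5) (h : ρ x = φA c5 * φB (c5 ^ 3)) :
    5 ^ 2 ∣ Nat.card ↥(centralizer ({sx x} : Set ↥(centralizer ({(x : G)} : Set G)))) := by
  have h1 : Nat.card ↥(fC x).range ∣ Nat.card ↥(centralizer ({sx x} : Set ↥(centralizer ({(x : G)} : Set G)))) :=
    Subgroup.card_range_dvd (fC x)
  refine Dvd.dvd.trans ?_ h1
  have hAB := comm_AB c5 c5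
  have hA : φA c5 ∈ (fC x).range := by
    rw [mem_range hx, h, mul_assoc, ← comm_AB]
  have hB : φB c5 ∈ (fC x).range := by
    rw [mem_range hx, h, ← mul_assoc, ← hAB, mul_assoc, mul_assoc, ← map_mul, ← map_mul, ← pow_succ', ← pow_succ]
  have hoA : orderOf (φA c5) = 5 := by rw [orderOf_injective _ φA_inj, c5_order]
  have hoB : orderOf (φB c5) = 5 := by rw [orderOf_injective _ φB_inj, c5_order]
  have h2 := HFacts.mul_order_dvd (C := ↥(fC x).range) (a := ⟨φA c5, hA⟩) (b := ⟨φB c5, hB⟩) (Subtype.ext hAB)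
    (HFacts.inf_eq_bot_of_prime Nat.prime_five (by rw [Subgroup.orderOf_mk, hoA]) (by
      intro h3
      obtain ⟨k, hk⟩ := mem_zpowers_iff.1 h3
      have h4 : φB c5 ^ k = φA c5 := congrArg Subtype.val hk
      rw [← map_zpow] at h4
      have h5 := φ2_inj (a := 1) (b := c5 ^ k) (a' := c5) (b' := 1) (by
        rw [map_one, map_one, one_mul, mul_one]; exact h4)
      exact c5_ne h5.1.symm))
  rw [Subgroup.orderOf_mk, Subgroup.orderOf_mk, hoA, hoB] at h2
  rwa [pow_two]

end Two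

end Cfsg.Agent.H513.NilpHN
end

-- part: H513/NilpHNDat
section
/-!
# Row HN of S2242: an element of type II with an extraspecial group (helper513)
-/

set_option autoImplicit false
set_option maxRecDepth 100000
set_option linter.unusedSectionVars false

namespace Cfsg.Agent.H513.NilpHN

open Cfsg.Agent.HN.Pres Cfsg.Agent.HN.H0Basic
open Cfsg.Agent.HN.P1408 hiding ψ
open Cfsg.Agent.HN.XWords (W0 W0_sq)
open Cfsg.Agent.HN.NormalH (ψ)
open Cfsg Cfsg.Agent
open Cfsg.Agent.KFacts.HN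
open Cfsg.Agent.CpAutTh.RankOne (UInv)
open Cfsg.Agent.CpAutHNFive Cfsg.Agent.CpAutHNFive.LFive Cfsg.Agent.CpAutHNFive.PFive
open Cfsg.Agent.CpAutHNFive.TFive Cfsg.Agent.CpAutHNFive.HTab Cfsg.Agent.CpAutHNFive.HFacts
open Cfsg.Agent.CpAutHNFive.TauFive Cfsg.Agent.BpSpor.HNFiveA
open Subgroup

/-- `aτ` -/
def ws : List ℕ := [2, 2, 2, 0, 0]
/-- an element of order 5 -/
def wcc : List ℕ := [3, 0, 3, 4, 3, 0, 2, 1, 2, 1, 2, 4, 1, 1, 3, 0, 2, 1, 2, 0, 3, 3, 0, 4, 3, 0, 3, 0, 3, 1, 2, 4, 2, 1,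
  2, 2, 2, 2, 0, 0, 3, 0, 3, 4, 3, 0, 2, 1, 2, 1, 2, 4, 1, 2, 2, 1, 3, 0, 3, 1, 2, 0, 0, 4, 3, 0, 3, 0, 3, 1, 2, 4, 2, 1,
  2, 2, 2, 2, 0, 0]
/-- an element of order 5 -/
def wdd : List ℕ := [3, 0, 3, 4, 3, 0, 2, 1, 2, 1, 2, 4, 1, 1, 2, 0, 2, 2, 0, 4, 3, 0, 3, 0, 3, 1, 2, 4, 2, 1, 2, 2, 2, 2,
  0, 0, 3, 0, 3, 4, 3, 0, 2, 1, 2, 1, 2, 4, 1, 3, 3, 1, 3, 0, 0, 4, 3, 0, 3, 0, 3, 1, 2, 4, 2, 1, 2, 2, 2, 2, 0, 0]

theorem cc_five : hw wcc ^ 5 = 1 := pow_one_of (by decide +kernel)
theorem dd_five : hw wdd ^ 5 = 1 := pow_one_of (by decide +kernel)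
theorem cc_comm : hw wcc * hw w1 = hw w1 * hw wcc := comm_of (by decide +kernel)
theorem dd_comm : hw wdd * hw w1 = hw w1 * hw wdd := comm_of (by decide +kernel)
theorem cc_inv : hw ws * hw wcc * hw ws * hw wcc = 1 := by
  rw [← hw_append, ← hw_append, ← hw_append, ← hw_nil]
  exact hw_eq (by decide +kernel)
theorem dd_inv : hw ws * hw wdd * hw ws * hw wdd = 1 := by
  rw [← hw_append, ← hw_append, ← hw_append, ← hw_nil]
  exact hw_eq (by decide +kernel)
theorem cc_dd : hw wcc * hw wdd = hw wdd * hw wcc * hw w1 ^ 4 := by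
  rw [← hw_rp, ← hw_append, ← hw_append, ← hw_append]
  exact hw_eq (by decide +kernel)

theorem not_comm : hw wcc * hw wdd ≠ hw wdd * hw wcc := by
  intro h
  rw [cc_dd] at h
  have h1 : hw w1 ^ 4 = 1 := mul_eq_left.1 h
  have h2 := w1_five
  rw [pow_succ, h1, one_mul] at h2
  exact w1_ne h2

theorem ψ_ws : ψ (hw ws) = W0 := by
  rw [hW]
  rfl

/-- **an element of type II** -/
theorem exists_data : ∃ y : PP, orderOf y = 5 ∧ ρ y = φA LFive.c5 * φB (LFive.c5 ^ 3) ∧ ∃ c d : G, c ^ 5 = 1 ∧ d ^ 5 = 1 ∧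
    c * y = y * c ∧ d * y = y * d ∧ c * d ≠ d * c ∧ W0 * c * W0⁻¹ = c⁻¹ ∧ W0 * d * W0⁻¹ = d⁻¹ := by
  let x : PP := ⟨ψ (hw w1), w1_PP⟩
  have hox : orderOf (ψ (hw w1)) = 5 := by rw [orderOf_injective _ emb.inj, order_w1]
  have hx : orderOf x = 5 := by rw [← Subgroup.orderOf_coe]; exact hox
  obtain ⟨g, m, hm1, hm5, h⟩ := conj_std hx
  let y : PP := g * x ^ m * g⁻¹
  have hy5 : orderOf y = 5 := by
    have h1 : orderOf (x ^ m) = 5 := by
      rw [orderOf_pow, hx]
      interval_cases m <;> rfl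
    rw [← h1]
    exact MulEquiv.orderOf_eq (MulAut.conj g) _
  have hy : (g : G) * ψ (hw w1) ^ m * (g : G)⁻¹ = (y : G) := rfl
  obtain ⟨e⟩ := cequiv_pow hox hm1 hm5 hy
  have hii : ρ y = φA LFive.c5 * φB (LFive.c5 ^ 3) := by
    rcases h with h | h | h
    · exfalso
      have h1 := (CpAutTh.RankOne.uInv_of_unique (order_sx y) (unique_one h)).1
      apply not_uInv
      intro a b ha hb hab
      apply e.injective
      apply h1
      · rw [MulEquiv.orderOf_eq, ha]
      · rw [MulEquiv.orderOf_eq, hb]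
      · rw [← map_mul, hab, map_mul]
    · exfalso
      have h2 := card_three (x := y) h
      rw [card_pair] at h2
      have h3 : (centralizer ({ψ (hw w1)} : Set G) ⊓ centralizer ({W0} : Set G)).map (MulAut.conj (g : G)).toMonoidHom =
          centralizer ({(y : G)} : Set G) ⊓ centralizer ({W0} : Set G) := by
        have hgW : (g : G) * W0 * (g : G)⁻¹ = W0 := by rw [mem_PP.1 g.2, mul_inv_cancel_right]
        rw [Subgroup.map_inf _ _ _ (MulAut.conj (g : G)).injective, ← centralizer_pow hox hm1 hm5, map_centralizer,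
          map_centralizer, hgW, hy]
      rw [← h3] at h2
      rw [← Nat.card_congr ((centralizer ({ψ (hw w1)} : Set G) ⊓ centralizer ({W0} : Set G)).equivMapOfInjective
        (MulAut.conj (g : G)).toMonoidHom (MulAut.conj (g : G)).injective).toEquiv] at h2
      have h10 := eight_dvd.trans h2
      norm_num at h10
    · exact h
  have hgW : (g : G) * W0 = W0 * (g : G) := mem_PP.1 g.2
  -- conjugation
  have key5 : ∀ w : List ℕ, hw w ^ 5 = 1 → ((g : G) * ψ (hw w) * (g : G)⁻¹) ^ 5 = 1 := by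
    intro w hw5
    rw [conj_pow, ← map_pow, hw5, map_one, mul_one, mul_inv_cancel]
  have keyc : ∀ w : List ℕ, hw w * hw w1 = hw w1 * hw w →
      ((g : G) * ψ (hw w) * (g : G)⁻¹) * (y : G) = (y : G) * ((g : G) * ψ (hw w) * (g : G)⁻¹) := by
    intro w hwc
    have h1 : ψ (hw w) * ψ (hw w1) ^ m = ψ (hw w1) ^ m * ψ (hw w) := by
      have h2 : ψ (hw w) * ψ (hw w1) = ψ (hw w1) * ψ (hw w) := by rw [← map_mul, hwc, map_mul]
      exact ((show Commute _ _ from h2).pow_right m).eq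
    rw [← hy]
    calc (g : G) * ψ (hw w) * (g : G)⁻¹ * ((g : G) * ψ (hw w1) ^ m * (g : G)⁻¹) =
        (g : G) * (ψ (hw w) * ψ (hw w1) ^ m) * (g : G)⁻¹ := by group
      _ = (g : G) * (ψ (hw w1) ^ m * ψ (hw w)) * (g : G)⁻¹ := by rw [h1]
      _ = _ := by group
  have keyi : ∀ w : List ℕ, hw ws * hw w * hw ws * hw w = 1 →
      W0 * ((g : G) * ψ (hw w) * (g : G)⁻¹) * W0⁻¹ = ((g : G) * ψ (hw w) * (g : G)⁻¹)⁻¹ := by
    intro w hwi
    have hWi : W0⁻¹ = W0 := inv_eq_of_mul_eq_one_right W0_sq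
    have hgWi : (g : G)⁻¹ * W0 = W0 * (g : G)⁻¹ := by
      rw [inv_mul_eq_iff_eq_mul, ← mul_assoc, hgW, mul_inv_cancel_right]
    have h1 : W0 * ψ (hw w) * W0 = (ψ (hw w))⁻¹ := by
      rw [← ψ_ws, ← map_mul, ← map_mul, ← map_inv]
      congr 1
      exact mul_eq_one_iff_eq_inv.1 hwi
    rw [hWi]
    calc W0 * ((g : G) * ψ (hw w) * (g : G)⁻¹) * W0 = (W0 * (g : G)) * ψ (hw w) * ((g : G)⁻¹ * W0) := by group
      _ = (g : G) * (W0 * ψ (hw w) * W0) * (g : G)⁻¹ := by rw [← hgW, hgWi]; group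
      _ = _ := by rw [h1]; group
  refine ⟨y, hy5, hii, (g : G) * ψ (hw wcc) * (g : G)⁻¹, (g : G) * ψ (hw wdd) * (g : G)⁻¹, key5 _ cc_five, key5 _ dd_five,
    keyc _ cc_comm, keyc _ dd_comm, ?_, keyi _ cc_inv, keyi _ dd_inv⟩
  intro h1
  apply not_comm
  apply emb.inj
  rw [map_mul, map_mul]
  have h2 : (g : G) * (ψ (hw wcc) * ψ (hw wdd)) * (g : G)⁻¹ = (g : G) * (ψ (hw wdd) * ψ (hw wcc)) * (g : G)⁻¹ := by
    calc (g : G) * (ψ (hw wcc) * ψ (hw wdd)) * (g : G)⁻¹ =
        (g : G) * ψ (hw wcc) * (g : G)⁻¹ * ((g : G) * ψ (hw wdd) * (g : G)⁻¹) := by group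
      _ = (g : G) * ψ (hw wdd) * (g : G)⁻¹ * ((g : G) * ψ (hw wcc) * (g : G)⁻¹) := h1
      _ = _ := by group
  exact mul_left_cancel (mul_right_cancel h2)

end Cfsg.Agent.H513.NilpHN
end

-- part: H513/NilpHN
section
/-!
# Row HN of S2242: orders of nilpotent subgroups (helper513)
-/

set_option autoImplicit false
set_option maxRecDepth 100000
set_option linter.unusedSectionVars false

namespace Cfsg.Agent.H513.NilpHN

open Cfsg.Agent.HN.Pres Cfsg.Agent.HN.H0Basic
open Cfsg.Agent.HN.P1408 hiding ψ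
open Cfsg.Agent.HN.XWords (W0 W0_sq)
open Cfsg.Agent.HN.NormalH (ψ)
open Cfsg Cfsg.Agent
open Cfsg.Agent.KFacts.HN
open Cfsg.Agent.CpAutHNFive.TFive
open Cfsg.Agent.H972 Cfsg.Agent.H972.NSm Cfsg.Agent.H513.NilpTools
open Subgroup

universe u

theorem card_G : Nat.card G = 273030912000000 := KFacts.HN.Classes.card_HN

/-- the element of order 5 -/
theorem exists_z : ∃ z : G, (∀ r : ℕ, r.Prime → ¬ r ∣ 3686400 → ¬ r * r ∣ 273030912000000 →
    ¬ r ∣ Nat.card ↥(centralizer ({z} : Set G))) ∧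
    ∀ B : Subgroup G, IsPGroup 5 ↥B → 5 ^ 4 ∣ Nat.card ↥B → ∃ g : G, g * z * g⁻¹ ∈ B := by
  obtain ⟨y, hy, hρ, c, d, hc5, hd5, hcy, hdy, hcd, hci, hdi⟩ := exists_data
  have hex := ex_two hy hρ
  obtain ⟨N, hcr⟩ := hex.exists_cr
  have hZ := hcr.normalZ
  have h7 : ¬ 5 ^ 7 ∣ Nat.card G := by rw [card_G]; norm_num
  refine ⟨(y : G), ?_, ?_⟩
  · intro r hr hrC hr2
    refine hcr.not_dvd hr ?_ ?_ hex.s_mem_commutator
    · intro hd
      apply hr2
      rw [← card_G]
      exact hd.trans (card_subgroup_dvd_card _)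
    · intro hd
      apply hrC
      rw [← card_PP]
      exact hd.trans (card_dvd_of_injective (toPP y) (toPP_inj y))
  · have hcN := hcr.mem_of_inv (v := (⟨c, mem_centralizer_singleton_iff.2 hcy⟩ : ↥(centralizer ({(y : G)} : Set G))))
      (m := 5) (Subtype.ext hci) (by decide) (Subtype.ext hc5)
    have hdN := hcr.mem_of_inv (v := (⟨d, mem_centralizer_singleton_iff.2 hdy⟩ : ↥(centralizer ({(y : G)} : Set G))))
      (m := 5) (Subtype.ext hdi) (by decide) (Subtype.ext hd5)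
    obtain ⟨h6, hbig⟩ := hcr.mem_of_big (fun hd => h7 (hd.trans (card_subgroup_dvd_card _))) (dvd_card hy hρ)
      (hex.irr hcr) hcN (Subtype.ext hc5) hdN (Subtype.ext hd5) (fun h => hcd (congrArg Subtype.val h))
    intro B hB hBd
    refine exists_conj_mem_of_big Nat.prime_five h6 h7 ?_ hB hBd
    intro B hBH hBp hB4
    have h1 := hbig (B.subgroupOf (centralizer ({(y : G)} : Set G)))
      (hBp.comap_of_injective (centralizer ({(y : G)} : Set G)).subtype (centralizer ({(y : G)} : Set G)).subtype_injective)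
      (by rw [Nat.card_congr (Subgroup.subgroupOfEquivOfLe hBH).toEquiv]; exact hB4)
    exact mem_subgroupOf.1 h1

/-- `C(ψ τ) = 2.HS.2` -/
theorem nle_H0 (hI : ∀ (H : Type) [Group H] [Finite H], IsSimpleGroup H → ¬ IsMulCommutative H →
    Nat.card H < 273030912000000 → NSm.Small H) : NLE 26636 H0 := by
  have hx : gx ^ 2 ≠ 1 := by
    intro h
    have h1 := CpAutHNFive.HFacts.order_τ
    rw [show τ = gx ^ 2 from rfl, h, orderOf_one] at h1
    norm_num at h1
  have hcard := Cfsg.Agent.HN.H0Basic.card_H0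
  have hQ := (Cfsg.Agent.HN.DoubleCover.nonempty_Q hcard hx).2
  have hQc := Cfsg.Agent.HN.DoubleCover.card_Q hcard hx
  have hnc : ¬ IsMulCommutative ↥Cfsg.Agent.HN.HS100.Q := by
    intro h
    have h1 := Cfsg.Agent.HN.DoubleCover.center_Q hcard hx
    have h2 : center ↥Cfsg.Agent.HN.HS100.Q = ⊤ := by
      rw [eq_top_iff]
      intro g _
      exact mem_center_iff.2 fun k => h.is_comm.comm k g
    rw [h2] at h1
    have h3 := congrArg (fun K : Subgroup ↥Cfsg.Agent.HN.HS100.Q => Nat.card ↥K) h1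
    change Nat.card ↥(⊤ : Subgroup ↥Cfsg.Agent.HN.HS100.Q) = Nat.card ↥(⊥ : Subgroup ↥Cfsg.Agent.HN.HS100.Q) at h3
    rw [Subgroup.card_top, Subgroup.card_bot, hQc] at h3
    norm_num at h3
  have hfin : Finite ↥Cfsg.Agent.HN.HS100.Q := Nat.finite_of_card_ne_zero (by rw [hQc]; norm_num)
  have h1 : NLE 6659 ↥Cfsg.Agent.HN.HS100.Q :=
    (hI _ hQ hnc (by rw [hQc]; norm_num)).nle (by rw [hQc]; norm_num)
  have h2 : NLE 13318 ↥Cfsg.Agent.HN.HS100.K :=
    nle_of_surj Cfsg.Agent.HN.DoubleCover.φK (Cfsg.Agent.HN.DoubleCover.card_ker hcard hx) h1 (by norm_num)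
  have h3 := h2.of_index
  rw [Cfsg.Agent.HN.HS100.K_index] at h3
  exact h3.mono (by norm_num)

/-- nilpotent subgroups of the centralizers of the involutions -/
theorem nle_inv (hI : ∀ (H : Type) [Group H] [Finite H], IsSimpleGroup H → ¬ IsMulCommutative H →
    Nat.card H < 273030912000000 → NSm.Small H) {x : G} (hx : orderOf x = 2) :
    NLE 3686400 ↥(centralizer ({x} : Set G)) := by
  rcases KFacts.HN.Classes.inv_class hx with h | h
  · obtain ⟨g, hg⟩ := isConj_iff.1 h.symm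
    have h1 : NLE 26636 ↥(ψ.range) := (nle_H0 hI).congr (MonoidHom.ofInjective emb.inj)
    have h2 : NLE 26636 ↥(centralizer ({ψ τ} : Set G)) := h1.of_le (fun u hu => by
      obtain ⟨v, hv⟩ := emb.cent u (mem_centralizer_singleton_iff.1 hu)
      exact ⟨v, hv⟩)
    exact (h2.congr (SporRec.LyType.conjCentEquiv g hg)).mono (by norm_num)
  · obtain ⟨g, hg⟩ := isConj_iff.1 h.symm
    refine nle_of_card ?_
    rw [← Nat.card_congr (SporRec.LyType.conjCentEquiv g hg).toEquiv]
    exact card_PP.le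

theorem card_inv {x : G} (hx : orderOf x = 2) : Nat.card ↥(centralizer ({x} : Set G)) = 3686400 ∨
    Nat.card ↥(centralizer ({x} : Set G)) = 177408000 := by
  rcases KFacts.HN.Classes.inv_class hx with h | h
  · obtain ⟨g, hg⟩ := isConj_iff.1 h.symm
    right
    rw [← Nat.card_congr (SporRec.LyType.conjCentEquiv g hg).toEquiv]
    exact KFacts.HN.Classes.card_centralizer_τ
  · obtain ⟨g, hg⟩ := isConj_iff.1 h.symm
    left
    rw [← Nat.card_congr (SporRec.LyType.conjCentEquiv g hg).toEquiv]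
    exact card_PP

/-- the arithmetic -/
theorem chkHN : allDiv [(3, 6), (5, 3), (7, 1), (11, 1), (19, 1)] 1 (fun m =>
    Nat.blt (m * m) 273030912000000 || exB 273030912000000 19 [(3, 6), (5, 3), (7, 1), (11, 1)] m) = true := by
  decide +kernel

theorem small (hI : ∀ (H : Type) [Group H] [Finite H], IsSimpleGroup H → ¬ IsMulCommutative H →
    Nat.card H < 273030912000000 → NSm.Small H) : NSm.Small G := by
  have hsimp : IsSimpleGroup G := Cfsg.Agent.S1701.result.1
  have h5F : Fact (Nat.Prime 5) := ⟨Nat.prime_five⟩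
  obtain ⟨z, hz, hbig⟩ := exists_z
  intro N hN
  by_cases h2 : 2 ∣ Nat.card ↥N
  · obtain ⟨x, hx, -, hle⟩ := exists_le_centralizer hN Nat.prime_two h2
    have h1 := (nle_inv hI hx).apply hN hle
    rw [card_G]
    exact (Nat.pow_le_pow_left h1 2).trans_lt (by norm_num)
  have hd := card_subgroup_dvd_card N
  rw [card_G, show (273030912000000 : ℕ) = 2 ^ 14 * (5 ^ 6 * (3 ^ 6 * 7 * 11 * 19)) by norm_num] at hd
  have hd := dvd_drop Nat.prime_two h2 hd
  rw [card_G]
  by_cases h5 : 5 ^ 4 ∣ Nat.card ↥N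
  · have key : ∀ r : ℕ, r.Prime → ¬ r ∣ 3686400 → ¬ r * r ∣ 273030912000000 → ¬ r ∣ Nat.card ↥N :=
      fun r hr hr1 hr2 => not_dvd_of_big Nat.prime_five hr hbig (hz r hr hr1 hr2) hN h5
    have h7 := key 7 (by norm_num) (by norm_num) (by norm_num)
    have h11 := key 11 (by norm_num) (by norm_num) (by norm_num)
    have h19 := key 19 (by norm_num) (by norm_num) (by norm_num)
    have hd : Nat.card ↥N ∣ 7 ^ 1 * (11 ^ 1 * (19 ^ 1 * (5 ^ 6 * 3 ^ 6))) := hd.trans (dvd_of_eq (by norm_num))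
    have hd := dvd_drop (by norm_num) h19 (dvd_drop (by norm_num) h11 (dvd_drop (by norm_num) h7 hd))
    exact (Nat.pow_le_pow_left (Nat.le_of_dvd (by norm_num) hd) 2).trans_lt (by norm_num)
  have hd := dvd_cap Nat.prime_five h5 hd
  -- the centralizers of the elements of order 19
  have hcent : ∀ x : G, orderOf x = 19 → Nat.card ↥(centralizer ({x} : Set G)) ∣ 19 * (5 ^ 3 * (3 ^ 6 * 7 * 11)) := by
    intro x hx
    have e2 : ¬ 2 ∣ Nat.card ↥(centralizer ({x} : Set G)) :=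
      odd_cent' hx fun t ht => by
        rcases card_inv ht with h | h
        · rw [h]; norm_num
        · rw [h]; norm_num
    have e5 : ¬ 5 ^ 4 ∣ Nat.card ↥(centralizer ({x} : Set G)) :=
      not_dvd_cent hbig hx (hz 19 (by norm_num) (by norm_num) (by norm_num))
    have h6 := card_subgroup_dvd_card (centralizer ({x} : Set G))
    rw [card_G, show (273030912000000 : ℕ) = 2 ^ 14 * (5 ^ 6 * (3 ^ 6 * 7 * 11 * 19)) by norm_num] at h6
    exact (dvd_cap Nat.prime_five e5 (dvd_drop Nat.prime_two e2 h6)).trans (dvd_of_eq (by norm_num))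
  have h3 := allDiv_spec (by norm_num) chkHN (d := Nat.card ↥N) (hd.trans (dvd_of_eq (by norm_num [prodL])))
  rw [one_mul, Bool.or_eq_true] at h3
  rcases h3 with h3 | h3
  · rw [pow_two]
    exact Eq.mp Nat.blt_eq h3
  · exact (false_of_exB (by norm_num) card_G (by norm_num) (by norm_num) (by norm_num) (fun x hx =>
      (hcent x hx).trans (dvd_of_eq (by norm_num [prodL]))) hN h3).elim

/-- **row HN of S2242** -/
theorem small_HN {G : Type u} [Group G] [Finite G] (h : Cfsg.Spor.IsoHN G)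
    (hI : ∀ (H : Type u) [Group H] [Finite H], IsSimpleGroup H → ¬ IsMulCommutative H → Nat.card H < Nat.card G →
      NSm.Small H) : NSm.Small G := by
  obtain ⟨e⟩ := h
  have hc : Nat.card G = 273030912000000 := by
    rw [Nat.card_congr e.toEquiv]
    exact card_G
  rw [hc] at hI
  exact (small fun H _ _ hs hnc hn => H199.NSmTool.small_lift hI H hs hnc hn).congr e.symm

end Cfsg.Agent.H513.NilpHN
end

private theorem dce_5154f7f1c448 : _root_.True := by
  try have : _root_.True := by simp only [_root_.Cfsg.Agent.H513.NilpHN.wij.eq_1]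
  try have : _root_.True := by simp only [_root_.Cfsg.Agent.H513.NilpTools.prodL.eq_2]
  try have : _root_.True := by simp only [_root_.Cfsg.Agent.H513.NilpTools.prodL.eq_1]
  exact _root_.True.intro
end
end
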