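import Cfsg.Agent.H132.Central_m3
import Cfsg.Agent.H610.TableAlt_m3
import Cfsg.Agent.H636.SympWreath
import Cfsg.Agent.ClassicalGeometry.SLTwoFour
import Cfsg.Agent.ClassicalGeometry.SympInvolutions
import Cfsg.Agent.LieClassical.SmallIso
import Cfsg.Agent.LieClassical.SympCount
import Cfsg.Agent.S0246
import Cfsg.Prelude.Def_LieTypeChar
import Cfsg.Agent.FastGrp
import Cfsg.Agent.Prune
set_option linter.all false
prune_inst 0x7f00000000000000000000000000000000000000000000000000000000000000000000000000000000000000000000000000000000000000000000000000000000000000000000000000000000000000003fffffffffffffffffffffffffffbeffbdffffffff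
open scoped Cfsg.Agent.FastGrp

/-!
# `Wand` for `PSp(2m, q)`, `q` odd, `m ≥ 2` (for S4011, task 326 of helper132)

A Sylow 2-subgroup of `Sp(2m, q)` is `R = Q ≀ H` (`H636.SympWreath.wr`).  The 2-spaces `V_i` of the
decomposition are the subspaces `[V, g]` of dimension 2 with `g ∈ R`, `g² ≠ 1`
(`range_cases`).  A real element `y` of prime order `r` with `q` of order `2m` modulo `r`
(`H610.SpField.exists_elt`) normalising `R` permutes the `V_i`; as `r > m` it fixes all of them,
so it is trivial on each of them: contradiction.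
-/

set_option autoImplicit false

namespace Cfsg.Agent.H513.WandPSp

open Matrix Equiv Cfsg.Agent.H636.SympWreath Cfsg.Agent.H132

section lin
variable {F : Type*} [Field F] {n : ℕ}

/-- The vector with block `a` at the place `j`. -/
def sb (j : Fin n) : (Fin 2 → F) →ₗ[F] (Fin n ⊕ Fin n → F) where
  toFun a := Sum.elim (Pi.single j (a 0)) (Pi.single j (a 1))
  map_add' a b := by
    funext i
    rcases i with i | i <;> simp [Pi.single_add]
  map_smul' c a := by
    funext i
    rcases i with i | i <;> simp [Pi.single_apply]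

/-- The block at the place `j`. -/
def cp (j : Fin n) (v : Fin n ⊕ Fin n → F) : Fin 2 → F := ![v (.inl j), v (.inr j)]

theorem cp_sub (j : Fin n) (v w : Fin n ⊕ Fin n → F) : cp j (v - w) = cp j v - cp j w := by
  funext i
  fin_cases i <;> rfl

theorem cp_sb (i j : Fin n) (a : Fin 2 → F) : cp i (sb j a) = if i = j then a else 0 := by
  funext l
  by_cases h : i = j
  · subst h
    (revert l; simp only [cp, sb, _root_.Fin.forall_fin_succ, Fin.isValue, _root_.LinearMap.coe_mk, _root_.AddHom.coe_mk, _root_.Sum.elim_inl, _root_.Pi.single_eq_same, _root_.Sum.elim_inr, ↓reduceIte, _root_.Matrix.cons_val_zero, _root_.Matrix.cons_val_succ, _root_.Matrix.cons_val_fin_one, _root_.Fin.succ_zero_eq_one, _root_.IsEmpty.forall_iff, _root_.and_self])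
  · fin_cases l <;> simp [cp, sb, h]

theorem cp_sb_self (i : Fin n) (a : Fin 2 → F) : cp i (sb i a) = a := by
  rw [cp_sb, if_pos rfl]

theorem cp_sb_ne {i j : Fin n} (h : i ≠ j) (a : Fin 2 → F) : cp i (sb j a) = 0 := by
  rw [cp_sb, if_neg h]

theorem sb_inj (j : Fin n) : Function.Injective (sb (F := F) j) := by
  intro a b h
  rw [← cp_sb_self j a, h, cp_sb_self]

theorem sum_sb (v : Fin n ⊕ Fin n → F) : ∑ j, sb j (cp j v) = v := by
  funext i
  rw [Finset.sum_apply]
  rcases i with i | i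
  · rw [Finset.sum_eq_single i]
    · simp [sb, cp]
    · intro j _ hj
      simp [sb, Pi.single_eq_of_ne hj.symm]
    · simp only [_root_.Finset.mem_univ, _root_.not_true_eq_false, _root_.IsEmpty.forall_iff]
  · rw [Finset.sum_eq_single i]
    · simp [sb, cp]
    · intro j _ hj
      simp [sb, Pi.single_eq_of_ne hj.symm]
    · simp only [_root_.Finset.mem_univ, _root_.not_true_eq_false, _root_.IsEmpty.forall_iff]

/-- a linear map is determined on the blocks -/
theorem ext_sb {f g : (Fin n ⊕ Fin n → F) →ₗ[F] (Fin n ⊕ Fin n → F)}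
    (h : ∀ j a, f (sb j a) = g (sb j a)) : f = g := by
  apply LinearMap.ext
  intro v
  rw [← sum_sb v, map_sum, map_sum]
  exact Finset.sum_congr rfl fun j _ => h j _

/-- The linear map of a symplectic matrix. -/
noncomputable def lm : Matrix.symplecticGroup (Fin n) F →* Module.End F (Fin n ⊕ Fin n → F) :=
  ((Matrix.toLinAlgEquiv' (R := F) (n := Fin n ⊕ Fin n) : _ ≃ₐ[F] _) : _ →* _).comp
    (Matrix.symplecticGroup (Fin n) F).subtype

theorem lm_apply (g : Matrix.symplecticGroup (Fin n) F) (v : Fin n ⊕ Fin n → F) :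
    lm g v = (g : Matrix (Fin n ⊕ Fin n) (Fin n ⊕ Fin n) F) *ᵥ v := by
  rfl

theorem lm_inj : Function.Injective (lm (F := F) (n := n)) := by
  intro g h e
  apply Subtype.ext
  exact (Matrix.toLinAlgEquiv' (R := F) (n := Fin n ⊕ Fin n)).injective e

theorem mono_mulVec_single (σ : Perm (Fin n)) (a : Fin n → F) (j : Fin n) (c : F) :
    mono σ a *ᵥ Pi.single j c = Pi.single (σ j) (a j * c) := by
  funext i
  rw [Matrix.mulVec_single]
  simp only [MulOpposite.smul_eq_mul_unop, MulOpposite.unop_op, Pi.smul_apply, Matrix.col_apply, mono_apply,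
    Pi.single_apply]
  split_ifs <;> simp

theorem blk_sb (σ : Perm (Fin n)) (A : Fin n → _root_.Matrix.SpecialLinearGroup (Fin 2) F) (j : Fin n)
    (a : Fin 2 → F) :
    lm (blk σ A) (sb j a) = sb (σ j) ((A j : Matrix (Fin 2) (Fin 2) F) *ᵥ a) := by
  rw [lm_apply]
  change fromBlocks _ _ _ _ *ᵥ (Sum.elim _ _) = Sum.elim _ _
  rw [Matrix.fromBlocks_mulVec]
  simp only [Sum.elim_comp_inl, Sum.elim_comp_inr, mono_mulVec_single]
  rw [← Pi.single_add, ← Pi.single_add]
  congr 2 <;> rw [Matrix.mulVec, dotProduct, Fin.sum_univ_two]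

/-- `[V, g]` -/
noncomputable def D (g : Matrix.symplecticGroup (Fin n) F) : Submodule F (Fin n ⊕ Fin n → F) :=
  LinearMap.range (lm g - 1)

theorem D_conj (y g : Matrix.symplecticGroup (Fin n) F) :
    D (y * g * y⁻¹) = (D g).map (lm y) := by
  have h1 : lm (y * g * y⁻¹) - 1 = lm y * ((lm g - 1) * lm y⁻¹) := by
    have h2 : lm y * lm y⁻¹ = 1 := by rw [← map_mul, mul_inv_cancel, map_one]
    rw [map_mul, map_mul, sub_mul, one_mul, mul_sub, h2, mul_assoc]
  have h3 : Function.Surjective (lm y⁻¹) := by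
    intro v
    refine ⟨lm y v, ?_⟩
    rw [← Module.End.mul_apply, ← map_mul, inv_mul_cancel, map_one, Module.End.one_apply]
  unfold D
  rw [h1]
  change LinearMap.range ((lm y).comp ((lm g - 1).comp (lm y⁻¹))) = _
  rw [LinearMap.range_comp, LinearMap.range_comp_of_range_eq_top _ (LinearMap.range_eq_top.2 h3)]

/-- the blocks -/
noncomputable def VV (j : Fin n) : Submodule F (Fin n ⊕ Fin n → F) := LinearMap.range (sb j)

theorem finrank_VV (j : Fin n) : Module.finrank F (VV (F := F) j) = 2 := by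
  rw [VV, LinearMap.finrank_range_of_inj (sb_inj j), Module.finrank_fin_fun]

theorem VV_inj {i j : Fin n} (h : VV (F := F) i = VV j) : i = j := by
  by_contra hne
  have h1 : sb i (fun _ => (1 : F)) ∈ VV (F := F) j := by
    rw [← h]
    exact ⟨_, rfl⟩
  obtain ⟨b, hb⟩ := h1
  have h2 := congrArg (cp i) hb
  rw [cp_sb_self, cp_sb_ne hne] at h2
  have h3 := congrFun h2 0
  exact zero_ne_one h3

theorem vec_cases {σ : Perm (Fin n)} {A : Fin n → _root_.Matrix.SpecialLinearGroup (Fin 2) F} (j : Fin n)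
    (a : Fin 2 → F) :
    (lm (blk σ A) - 1) (sb j a) = sb (σ j) ((A j : Matrix (Fin 2) (Fin 2) F) *ᵥ a) - sb j a := by
  rw [LinearMap.sub_apply, Module.End.one_apply, blk_sb]

theorem sl_mul_vec (s t : _root_.Matrix.SpecialLinearGroup (Fin 2) F) (a : Fin 2 → F) :
    (s : Matrix (Fin 2) (Fin 2) F) *ᵥ ((t : Matrix (Fin 2) (Fin 2) F) *ᵥ a) =
      ((s * t : _root_.Matrix.SpecialLinearGroup (Fin 2) F) : Matrix (Fin 2) (Fin 2) F) *ᵥ a :=
  Matrix.mulVec_mulVec _ _ _

theorem sl_one_vec (a : Fin 2 → F) :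
    ((1 : _root_.Matrix.SpecialLinearGroup (Fin 2) F) : Matrix (Fin 2) (Fin 2) F) *ᵥ a = a :=
  Matrix.one_mulVec a

theorem sl_inj (t : _root_.Matrix.SpecialLinearGroup (Fin 2) F) {a : Fin 2 → F}
    (h : (t : Matrix (Fin 2) (Fin 2) F) *ᵥ a = 0) : a = 0 := by
  have h1 := sl_mul_vec t⁻¹ t a
  rw [h, Matrix.mulVec_zero, inv_mul_cancel, sl_one_vec] at h1
  exact h1.symm

theorem e0_ne : (fun _ => 1 : Fin 2 → F) ≠ 0 := fun h => one_ne_zero (α := F) (congrFun h 0)

/-- **The elements `g` of the wreath product with `dim [V, g] ≤ 2`, `g² ≠ 1`.** -/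
theorem range_cases {σ : Perm (Fin n)} {A : Fin n → _root_.Matrix.SpecialLinearGroup (Fin 2) F}
    (hA : ∀ j, A j ≠ 1 → ∀ a : Fin 2 → F, (A j : Matrix (Fin 2) (Fin 2) F) *ᵥ a = a → a = 0)
    (h2 : Module.finrank F (D (blk σ A)) ≤ 2) (hsq : blk σ A * blk σ A ≠ 1) :
    ∃ j, D (blk σ A) = VV j := by
  by_cases hσ : σ = 1
  · subst hσ
    obtain ⟨j, hj⟩ : ∃ j, A j ≠ 1 := by
      by_contra hno
      push Not at hno
      apply hsq
      have : A = 1 := funext hno
      rw [this, blk_one, one_mul]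
    refine ⟨j, ?_⟩
    have hle : VV j ≤ D (blk 1 A) := by
      rintro _ ⟨b, rfl⟩
      -- `A j - 1` is invertible
      have hinj : Function.Injective (Matrix.toLin' ((A j : Matrix (Fin 2) (Fin 2) F) - 1)) := by
        rw [injective_iff_map_eq_zero]
        intro a ha
        apply hA j hj
        rw [Matrix.toLin'_apply, Matrix.sub_mulVec, Matrix.one_mulVec, sub_eq_zero] at ha
        exact ha
      obtain ⟨a, ha⟩ := (LinearMap.injective_iff_surjective.1 hinj) b
      refine ⟨sb j a, ?_⟩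
      rw [vec_cases, Perm.one_apply, ← map_sub]
      rw [Matrix.toLin'_apply, Matrix.sub_mulVec, Matrix.one_mulVec] at ha
      rw [ha]
    refine (Submodule.eq_of_le_of_finrank_le hle ?_).symm
    rw [finrank_VV]
    exact h2
  · exfalso
    obtain ⟨k, hk⟩ : ∃ k, σ k ≠ k := by
      by_contra hno
      push Not at hno
      exact hσ (Equiv.ext hno)
    set f : (Fin 2 → F) →ₗ[F] (Fin n ⊕ Fin n → F) := (lm (blk σ A) - 1).comp (sb k) with hf
    have hfa : ∀ a, f a = sb (σ k) ((A k : Matrix (Fin 2) (Fin 2) F) *ᵥ a) - sb k a :=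
      fun a => vec_cases k a
    have hfinj : Function.Injective f := by
      rw [injective_iff_map_eq_zero]
      intro a ha
      rw [hfa] at ha
      have h3 := congrArg (cp k) ha
      rw [cp_sub, cp_sb_ne hk.symm, cp_sb_self, zero_sub] at h3
      have h4 : cp k (0 : Fin n ⊕ Fin n → F) = 0 := by
        funext l
        fin_cases l <;> rfl
      rw [h4] at h3
      exact neg_eq_zero.1 h3
    have hle : LinearMap.range f ≤ D (blk σ A) := by
      rintro _ ⟨a, rfl⟩
      exact ⟨sb k a, rfl⟩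
    have heq : LinearMap.range f = D (blk σ A) := by
      refine Submodule.eq_of_le_of_finrank_le hle ?_
      rw [LinearMap.finrank_range_of_inj hfinj, Module.finrank_fin_fun]
      exact h2
    have key : ∀ l b, ∃ a, sb (σ l) ((A l : Matrix (Fin 2) (Fin 2) F) *ᵥ b) - sb l b =
        sb (σ k) ((A k : Matrix (Fin 2) (Fin 2) F) *ᵥ a) - sb k a := by
      intro l b
      have h3 : (lm (blk σ A) - 1) (sb l b) ∈ LinearMap.range f := by
        rw [heq]
        exact ⟨_, rfl⟩
      obtain ⟨a, ha⟩ := h3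
      exact ⟨a, by rw [← hfa, ha, vec_cases]⟩
    -- outside `k`, `σ k`
    have hout : ∀ l, l ≠ k → l ≠ σ k → σ l = l ∧ ∀ b, (A l : Matrix (Fin 2) (Fin 2) F) *ᵥ b = b := by
      intro l hl1 hl2
      have h3 : σ l = l := by
        by_contra hne
        obtain ⟨a, ha⟩ := key l (fun _ => 1)
        have h4 := congrArg (cp l) ha
        rw [cp_sub, cp_sub, cp_sb_ne (Ne.symm hne), cp_sb_self, cp_sb_ne hl2, cp_sb_ne hl1,
          zero_sub, sub_zero] at h4
        exact e0_ne (neg_eq_zero.1 h4)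
      refine ⟨h3, fun b => ?_⟩
      obtain ⟨a, ha⟩ := key l b
      have h4 := congrArg (cp l) ha
      rw [h3, cp_sub, cp_sub, cp_sb_self, cp_sb_self, cp_sb_ne hl2, cp_sb_ne hl1,
          sub_zero] at h4
      exact sub_eq_zero.1 h4
    have hkk : σ (σ k) = k := by
      by_contra hne
      obtain ⟨a, ha⟩ := key (σ k) (fun _ => 1)
      have h4 := congrArg (cp (σ (σ k))) ha
      have h5 : σ (σ k) ≠ σ k := fun h => hk (σ.injective h)
      rw [cp_sub, cp_sub, cp_sb_self, cp_sb_ne h5, cp_sb_ne h5, cp_sb_ne hne,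
          sub_zero, sub_zero] at h4
      exact e0_ne (sl_inj _ h4)
    have hAA : ∀ b, (A k : Matrix (Fin 2) (Fin 2) F) *ᵥ ((A (σ k) : Matrix (Fin 2) (Fin 2) F) *ᵥ b) = b := by
      intro b
      obtain ⟨a, ha⟩ := key (σ k) b
      rw [hkk] at ha
      have h4 := congrArg (cp k) ha
      have h5 := congrArg (cp (σ k)) ha
      rw [cp_sub, cp_sub, cp_sb_self, cp_sb_ne hk.symm, cp_sb_ne hk.symm, cp_sb_self,
        sub_zero, zero_sub] at h4
      rw [cp_sub, cp_sub, cp_sb_self, cp_sb_ne hk, cp_sb_ne hk, cp_sb_self,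
        sub_zero, zero_sub] at h5
      rw [h4, Matrix.mulVec_neg, ← h5, neg_neg]
    have hAA' : A k * A (σ k) = 1 := by
      apply Subtype.ext
      apply Matrix.toLin'.injective
      apply LinearMap.ext
      intro b
      rw [Matrix.toLin'_apply, Matrix.toLin'_apply]
      change ((A k : Matrix (Fin 2) (Fin 2) F) * (A (σ k) : Matrix (Fin 2) (Fin 2) F)) *ᵥ b = 1 *ᵥ b
      rw [← Matrix.mulVec_mulVec, hAA, Matrix.one_mulVec]
    have hAA2 : ∀ b, (A (σ k) : Matrix (Fin 2) (Fin 2) F) *ᵥ ((A k : Matrix (Fin 2) (Fin 2) F) *ᵥ b) = b := by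
      intro b
      have h3 : A (σ k) * A k = 1 := mul_eq_one_iff_eq_inv.2 (eq_inv_of_mul_eq_one_right hAA')
      rw [sl_mul_vec, h3, sl_one_vec]
    apply hsq
    apply lm_inj
    rw [map_mul, map_one]
    apply ext_sb
    intro l b
    rw [Module.End.mul_apply, Module.End.one_apply, blk_sb, blk_sb]
    by_cases h1 : l = k
    · subst h1
      rw [hkk, hAA2]
    by_cases h1' : l = σ k
    · subst h1'
      rw [hkk, hAA]
    · obtain ⟨h3, h4⟩ := hout l h1 h1'
      rw [h3, h3, h4, h4]

end lin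

section fin
variable {F : Type*} [Field F] {n : ℕ}

theorem two_elt (h2 : (2 : F) ≠ 0) (k : ℕ) (t : _root_.Matrix.SpecialLinearGroup (Fin 2) F) (ht : t ^ 2 ^ k = 1)
    (h1 : t ≠ 1) (a : Fin 2 → F) (ha : (t : Matrix (Fin 2) (Fin 2) F) *ᵥ a = a) : a = 0 := by
  induction k generalizing t with
  | zero => exact absurd (by simpa using ht) h1
  | succ k ih =>
    by_cases hs : t * t = 1
    · rcases ClassicalGeometry.SLTwoFour.eq_one_or_neg_one_of_mul_self h2 t hs with h | h
      · exact absurd h h1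
      · rw [h] at ha
        have h3 : (-a : Fin 2 → F) = a := by
          have h4 : ((-1 : _root_.Matrix.SpecialLinearGroup (Fin 2) F) : Matrix (Fin 2) (Fin 2) F) *ᵥ a = -a := by
            change (-(1 : Matrix (Fin 2) (Fin 2) F)) *ᵥ a = -a
            rw [Matrix.neg_mulVec, Matrix.one_mulVec]
          rw [← h4]
          exact ha
        funext i
        have h5 := congrFun h3 i
        rw [Pi.neg_apply] at h5
        have h6 : (2 : F) * a i = 0 := by linear_combination -h5
        exact (mul_eq_zero.1 h6).resolve_left h2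
    · refine ih (t * t) ?_ hs ?_
      · rw [← pow_two, ← pow_mul, ← pow_succ']
        exact ht
      · rw [← sl_mul_vec, ha, ha]

/-- The `2`-part of `q ^ (2 m) - 1`. -/
theorem val_pow (q m : ℕ) (hq : Odd q) (hq1 : 1 < q) (hm : m ≠ 0) :
    padicValNat 2 (q ^ (2 * m) - 1) = padicValNat 2 (q ^ 2 - 1) + padicValNat 2 m := by
  have hq2 : ¬ 2 ∣ q := by
    intro h
    exact (Nat.not_even_iff_odd.2 hq) (even_iff_two_dvd.2 h)
  have h1 := padicValNat.pow_two_sub_one hq1 hq2 (n := 2 * m) (by omega) (by simp only [_root_.even_two, _root_.Even.mul_right])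
  have h2 := padicValNat.pow_two_sub_one hq1 hq2 (n := 2) (by omega) (by simp only [_root_.even_two])
  rw [padicValNat.mul (by norm_num) hm] at h1
  have h3 : padicValNat 2 2 = 1 := padicValNat_self
  omega

variable [Fintype F]

/-- The wreath product of Sylow subgroups is a Sylow subgroup (proof of S4624 by helper636). -/
theorem exists_sylow (hF : Odd (Fintype.card F)) (n : ℕ) (Q : Sylow 2 (_root_.Matrix.SpecialLinearGroup (Fin 2) F))
    (H : Sylow 2 (Equiv.Perm (Fin n))) : ∃ R : Sylow 2 (Matrix.symplecticGroup (Fin n) F),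
      (R : Subgroup (Matrix.symplecticGroup (Fin n) F)) =
        wr (Q : Subgroup (_root_.Matrix.SpecialLinearGroup (Fin 2) F)) (H : Subgroup (Equiv.Perm (Fin n))) := by
  have hq1 : 1 < Fintype.card F := Fintype.one_lt_card
  have hq0 : Fintype.card F ≠ 0 := by omega
  have hq2 : ¬ 2 ∣ Fintype.card F := by
    intro h
    exact (Nat.not_even_iff_odd.2 hF) (even_iff_two_dvd.2 h)
  have hpw : ∀ m : ℕ, m ≠ 0 → Fintype.card F ^ m - 1 ≠ 0 := by
    intro m hm
    have := Nat.one_lt_pow hm hq1
    omega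
  have hval0 : ∀ m : ℕ, padicValNat 2 (Fintype.card F ^ m) = 0 := by
    intro m
    rw [padicValNat.eq_zero_iff]
    right; right
    intro h
    exact hq2 (Nat.Prime.dvd_of_dvd_pow Nat.prime_two h)
  have hQc : Nat.card Q = 2 ^ (padicValNat 2 (Fintype.card F ^ 2 - 1)) := by
    rw [Q.card_eq_multiplicity, Cfsg.Agent.LieClassical.SmallIso.card_sl_two,
      Nat.factorization_def _ Nat.prime_two, padicValNat.mul hq0 (hpw 2 (by norm_num))]
    have := hval0 1
    rw [pow_one] at this
    rw [this, zero_add]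
  have hHc : Nat.card H = 2 ^ (padicValNat 2 n.factorial) := by
    rw [H.card_eq_multiplicity, Nat.card_eq_fintype_card, Fintype.card_perm, Fintype.card_fin,
      Nat.factorization_def _ Nat.prime_two]
  have hcard : Nat.card (wr (Q : Subgroup (_root_.Matrix.SpecialLinearGroup (Fin 2) F))
      (H : Subgroup (Equiv.Perm (Fin n)))) =
      2 ^ (Nat.card (Matrix.symplecticGroup (Fin n) F)).factorization 2 := by
    rw [card_wr, hQc, hHc, ← pow_mul, ← pow_add,
      Cfsg.Agent.LieClassical.SympCount.card_symplecticGroup, Nat.factorization_def _ Nat.prime_two]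
    congr 1
    rw [padicValNat.mul (pow_ne_zero _ hq0) (Finset.prod_ne_zero_iff.2 fun i _ => hpw _ (by omega)),
      hval0, zero_add]
    clear hHc H
    induction n with
    | zero => simp only [_root_.MulZeroClass.mul_zero, _root_.Nat.factorial_zero, _root_.padicValNat_one_right, _root_.add_zero, _root_.Finset.range_zero, _root_.Finset.prod_empty]
    | succ n ih =>
      rw [Finset.prod_range_succ, padicValNat.mul
        (Finset.prod_ne_zero_iff.2 fun i _ => hpw _ (by omega)) (hpw _ (by omega)), ← ih,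
        val_pow _ _ hF hq1 (by omega), Nat.factorial_succ, padicValNat.mul (by omega)
        (Nat.factorial_ne_zero n)]
      ring
  exact ⟨Sylow.ofCard _ hcard, rfl⟩

theorem two_ne (hF : Odd (Fintype.card F)) : (2 : F) ≠ 0 := by
  intro h
  have h1 : ((Fintype.card F : ℕ) : F) = 0 := by
    exact FiniteField.cast_card_eq_zero F
  obtain ⟨k, hk⟩ := hF
  rw [hk] at h1
  push_cast at h1
  rw [h, zero_mul, zero_add] at h1
  exact one_ne_zero h1

/-- An element of order at least four. -/
theorem exists_four (hF : Odd (Fintype.card F)) (Q : Sylow 2 (_root_.Matrix.SpecialLinearGroup (Fin 2) F)) :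
    ∃ t ∈ (Q : Subgroup (_root_.Matrix.SpecialLinearGroup (Fin 2) F)), t * t ≠ 1 := by
  by_contra hno
  push Not at hno
  have h4 : 2 ^ 2 ∣ Nat.card (_root_.Matrix.SpecialLinearGroup (Fin 2) F) := by
    rw [LieClassical.SmallIso.card_sl_two]
    obtain ⟨k, hk⟩ := hF
    rw [hk]
    refine Dvd.dvd.mul_left ?_ _
    have : (2 * k + 1) ^ 2 - 1 = 2 ^ 2 * (k * k + k) := by
      have : (2 * k + 1) ^ 2 = 2 ^ 2 * (k * k + k) + 1 := by ring
      omega
    rw [this]
    exact dvd_mul_right _ _
  have h5 := Q.pow_dvd_card_of_pow_dvd_card h4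
  have h6 : Nat.card (Q : Subgroup (_root_.Matrix.SpecialLinearGroup (Fin 2) F)) ≤ 2 := by
    have h7 : ((Q : Subgroup (_root_.Matrix.SpecialLinearGroup (Fin 2) F)) : Set (_root_.Matrix.SpecialLinearGroup (Fin 2) F)) ⊆
        ({1, -1} : Set (_root_.Matrix.SpecialLinearGroup (Fin 2) F)) := by
      intro t ht
      exact ClassicalGeometry.SLTwoFour.eq_one_or_neg_one_of_mul_self (two_ne hF) t (hno t ht)
    calc Nat.card (Q : Subgroup (_root_.Matrix.SpecialLinearGroup (Fin 2) F)) =
        ((Q : Subgroup (_root_.Matrix.SpecialLinearGroup (Fin 2) F)) : Set (_root_.Matrix.SpecialLinearGroup (Fin 2) F)).ncard := rfl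
      _ ≤ ({1, -1} : Set (_root_.Matrix.SpecialLinearGroup (Fin 2) F)).ncard := Set.ncard_le_ncard h7
      _ ≤ 2 := (Set.ncard_insert_le _ _).trans (by rw [Set.ncard_singleton])
  have h8 := Nat.le_of_dvd Nat.card_pos h5
  omega

theorem sylow_two_elt (hF : Odd (Fintype.card F)) {Q : Sylow 2 (_root_.Matrix.SpecialLinearGroup (Fin 2) F)}
    {t : _root_.Matrix.SpecialLinearGroup (Fin 2) F} (ht : t ∈ (Q : Subgroup (_root_.Matrix.SpecialLinearGroup (Fin 2) F)))
    (h1 : t ≠ 1) (a : Fin 2 → F) (ha : (t : Matrix (Fin 2) (Fin 2) F) *ᵥ a = a) : a = 0 := by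
  obtain ⟨k, hk⟩ := Q.2 ⟨t, ht⟩
  refine two_elt (two_ne hF) k t ?_ h1 a ha
  have := congrArg Subtype.val hk
  simpa only [_root_.SubmonoidClass.mk_pow, _root_.OneMemClass.coe_one] using this

/-- The elements `u_i`. -/
theorem D_single (hF : Odd (Fintype.card F)) {Q : Sylow 2 (_root_.Matrix.SpecialLinearGroup (Fin 2) F)}
    {t : _root_.Matrix.SpecialLinearGroup (Fin 2) F} (ht : t ∈ (Q : Subgroup (_root_.Matrix.SpecialLinearGroup (Fin 2) F)))
    (htt : t * t ≠ 1) (i : Fin n) :
    (blk 1 (Pi.mulSingle i t) * blk 1 (Pi.mulSingle i t) : Matrix.symplecticGroup (Fin n) F) ≠ 1 ∧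
    D (blk 1 (Pi.mulSingle i t) : Matrix.symplecticGroup (Fin n) F) = VV i := by
  have hsq : (blk 1 (Pi.mulSingle i t) * blk 1 (Pi.mulSingle i t) :
      Matrix.symplecticGroup (Fin n) F) ≠ 1 := by
    intro h
    rw [blk_mul, ← blk_one] at h
    have h1 := congrFun (blk_injective h).2 i
    simp only [Perm.one_apply, Pi.mulSingle_eq_same, Pi.one_apply] at h1
    exact htt h1
  refine ⟨hsq, ?_⟩
  have hle : D (blk 1 (Pi.mulSingle i t) : Matrix.symplecticGroup (Fin n) F) ≤ VV i := by
    rintro _ ⟨v, rfl⟩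
    rw [← sum_sb v, map_sum]
    refine Submodule.sum_mem _ fun j _ => ?_
    rw [vec_cases]
    by_cases hj : j = i
    · subst hj
      rw [Perm.one_apply, ← map_sub]
      exact ⟨_, rfl⟩
    · rw [Pi.mulSingle_eq_of_ne hj, sl_one_vec, Perm.one_apply, sub_self]
      exact Submodule.zero_mem _
  have hfr : Module.finrank F (D (blk 1 (Pi.mulSingle i t) : Matrix.symplecticGroup (Fin n) F)) ≤ 2 := by
    exact (Submodule.finrank_mono hle).trans (finrank_VV i).le
  obtain ⟨j, hj⟩ := range_cases (fun j hj a ha => by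
    have h1 : (Pi.mulSingle i t : Fin n → _root_.Matrix.SpecialLinearGroup (Fin 2) F) j ∈
        (Q : Subgroup (_root_.Matrix.SpecialLinearGroup (Fin 2) F)) := by
      by_cases hji : j = i
      · subst hji; rw [Pi.mulSingle_eq_same]; exact ht
      · rw [Pi.mulSingle_eq_of_ne hji]; exact one_mem _
    exact sylow_two_elt hF h1 hj a ha) hfr hsq
  rw [hj] at hle ⊢
  exact Submodule.eq_of_le_of_finrank_le hle (by rw [finrank_VV, finrank_VV])

/-- Normalising elements permute the blocks. -/
theorem exists_map (hF : Odd (Fintype.card F)) {Q : Sylow 2 (_root_.Matrix.SpecialLinearGroup (Fin 2) F)}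
    {H : Subgroup (Equiv.Perm (Fin n))} {y : Matrix.symplecticGroup (Fin n) F}
    (hy : ∀ g ∈ wr (Q : Subgroup (_root_.Matrix.SpecialLinearGroup (Fin 2) F)) H,
      y * g * y⁻¹ ∈ wr (Q : Subgroup (_root_.Matrix.SpecialLinearGroup (Fin 2) F)) H) (i : Fin n) :
    ∃ j, (VV i).map (lm y) = VV j := by
  obtain ⟨t, ht, htt⟩ := exists_four hF Q
  obtain ⟨h1, h2⟩ := D_single (n := n) hF ht htt i
  have h3 : (blk 1 (Pi.mulSingle i t) : Matrix.symplecticGroup (Fin n) F) ∈
      wr (Q : Subgroup (_root_.Matrix.SpecialLinearGroup (Fin 2) F)) H := by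
    refine ⟨1, one_mem _, _, fun j => ?_, rfl⟩
    by_cases hji : j = i
    · subst hji; rw [Pi.mulSingle_eq_same]; exact ht
    · rw [Pi.mulSingle_eq_of_ne hji]; exact one_mem _
  obtain ⟨σ, -, A, hA, hg⟩ := hy _ h3
  have h4 := D_conj y (blk 1 (Pi.mulSingle i t))
  rw [h2] at h4
  rw [← h4, hg]
  apply range_cases (fun j hj a ha => sylow_two_elt hF (hA j) hj a ha)
  · rw [← hg, h4]
    exact (Submodule.finrank_map_le _ _).trans (by rw [finrank_VV])
  · rw [← hg]
    intro h5
    apply h1
    have h6 : y * blk 1 (Pi.mulSingle i t) * y⁻¹ * (y * blk 1 (Pi.mulSingle i t) * y⁻¹) =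
        y * (blk 1 (Pi.mulSingle i t) * blk 1 (Pi.mulSingle i t)) * y⁻¹ := by group
    rw [h6, mul_inv_eq_one, mul_eq_left] at h5
    exact h5

omit [Fintype F] in
theorem lm_injective (y : Matrix.symplecticGroup (Fin n) F) : Function.Injective (lm y) := by
  intro v w h
  have h1 := congrArg (lm y⁻¹) h
  rwa [← Module.End.mul_apply, ← Module.End.mul_apply, ← map_mul, inv_mul_cancel, map_one,
    Module.End.one_apply, Module.End.one_apply] at h1

/-- An element of order `r` preserving all the blocks is trivial. -/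
theorem eq_one_of_map {r : ℕ} (hr : r.Prime) (hord : 3 ≤ orderOf ((Fintype.card F : ℕ) : ZMod r))
    {y : Matrix.symplecticGroup (Fin n) F} (hyr : y ^ r = 1)
    (hy : ∀ i, (VV i).map (lm y) = VV i) : y = 1 := by
  have : Fact r.Prime := ⟨hr⟩
  -- the order of `GL₂`
  have hcop : ¬ r ∣ Nat.card (GL (Fin 2) F) := by
    rw [Matrix.card_GL_field, Fin.prod_univ_two]
    intro hdv
    have hq1 : 1 < Fintype.card F := Fintype.one_lt_card
    have hcase : r ∣ Fintype.card F ^ 2 - 1 ∨ r ∣ Fintype.card F := by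
      rcases hr.dvd_mul.1 hdv with h | h
      · left
        simpa only [_root_.Fin.isValue, _root_.Fin.coe_ofNat_eq_mod, _root_.Nat.zero_mod, _root_.pow_zero] using h
      · have h2 : Fintype.card F ^ 2 - Fintype.card F ^ ((1 : Fin 2) : ℕ) =
            Fintype.card F * (Fintype.card F - 1) := by
          simp only [pow_two, Nat.mul_sub, _root_.Fin.isValue, _root_.Fin.coe_ofNat_eq_mod, _root_.Nat.mod_succ, _root_.pow_one, _root_.mul_one]
        rw [h2] at h
        rcases hr.dvd_mul.1 h with h3 | h3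
        · exact Or.inr h3
        · left
          have h4 : Fintype.card F ^ 2 - 1 = (Fintype.card F + 1) * (Fintype.card F - 1) := by
            have := Nat.sq_sub_sq (Fintype.card F) 1
            simpa only [_root_.one_pow] using this
          rw [h4]
          exact Dvd.dvd.mul_left h3 _
    rcases hcase with h | h
    · have h1 : ((Fintype.card F : ℕ) : ZMod r) ^ 2 = 1 := by
        have h5 := (ZMod.natCast_eq_zero_iff _ _).2 h
        rw [Nat.cast_sub (Nat.one_le_pow _ _ (by omega))] at h5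
        push_cast at h5
        exact sub_eq_zero.1 h5
      have h6 := orderOf_le_of_pow_eq_one (by norm_num) h1
      omega
    · have h1 := (ZMod.natCast_eq_zero_iff _ _).2 h
      rw [h1] at hord
      have h2 : orderOf (0 : ZMod r) = 0 := orderOf_zero _
      omega
  apply lm_inj
  rw [map_one]
  apply ext_sb
  intro i a
  rw [Module.End.one_apply]
  -- the block
  let cpl : (Fin n ⊕ Fin n → F) →ₗ[F] (Fin 2 → F) :=
    { toFun := cp i
      map_add' := fun v w => by funext l; fin_cases l <;> rfl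
      map_smul' := fun c w => by funext l; fin_cases l <;> rfl }
  let b : Module.End F (Fin 2 → F) := cpl.comp ((lm y).comp (sb i))
  have hb : ∀ a, lm y (sb i a) = sb i (b a) := by
    intro a
    have h1 : lm y (sb i a) ∈ VV i := by
      rw [← hy i]
      exact ⟨_, ⟨a, rfl⟩, rfl⟩
    obtain ⟨c, hc⟩ := h1
    change _ = sb i (cp i (lm y (sb i a)))
    rw [← hc, cp_sb_self]
  have hbk : ∀ (k : ℕ) a, lm (y ^ k) (sb i a) = sb i ((b ^ k) a) := by
    intro k
    induction k with
    | zero => intro a; rw [pow_zero, pow_zero, map_one]; rfl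
    | succ k ih =>
      intro a
      rw [pow_succ', map_mul, Module.End.mul_apply, ih, hb, pow_succ', Module.End.mul_apply]
  have hbr : b ^ r = 1 := by
    apply LinearMap.ext
    intro a
    apply sb_inj i
    rw [← hbk, hyr, map_one]
    rfl
  let B : Matrix (Fin 2) (Fin 2) F := LinearMap.toMatrixAlgEquiv' b
  have hBr : B ^ r = 1 := by
    change (LinearMap.toMatrixAlgEquiv' b) ^ r = 1
    rw [← map_pow, hbr, map_one]
  have hr1 : r = (r - 1) + 1 := by have := hr.one_lt; omega
  let u : GL (Fin 2) F := ⟨B, B ^ (r - 1), by rw [← pow_succ', ← hr1, hBr],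
    by rw [← pow_succ, ← hr1, hBr]⟩
  have hur : u ^ r = 1 := by
    apply Units.ext
    rw [Units.val_pow_eq_pow_val]
    exact hBr
  have hu : u = 1 := by
    rw [← orderOf_eq_one_iff]
    have h1 := orderOf_dvd_of_pow_eq_one hur
    rcases (Nat.dvd_prime hr).1 h1 with h | h
    · exact h
    · exfalso
      apply hcop
      rw [← h]
      exact orderOf_dvd_natCard u
  have hB : B = 1 := congrArg Units.val hu
  have hb1 : b = 1 := by
    apply (LinearMap.toMatrixAlgEquiv' (R := F) (n := Fin 2)).injective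
    rw [map_one]
    exact hB
  rw [hb, hb1, Module.End.one_apply]

/-- **No element as in `H610.SpField.exists_elt` normalises a Sylow 2-subgroup.** -/
theorem not_mem_normalizer (hF : Odd (Fintype.card F)) (hn : 2 ≤ n) {r : ℕ} (hr : r.Prime)
    (hord : orderOf ((Fintype.card F : ℕ) : ZMod r) = 2 * n) {y : Matrix.symplecticGroup (Fin n) F}
    (hyr : y ^ r = 1) (hy1 : y ≠ 1) (P : Sylow 2 (Matrix.symplecticGroup (Fin n) F)) :
    y ∉ Subgroup.normalizer ((P : Subgroup (Matrix.symplecticGroup (Fin n) F)) :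
      Set (Matrix.symplecticGroup (Fin n) F)) := by
  intro hyP
  have hfr : Fact r.Prime := ⟨hr⟩
  obtain ⟨Q⟩ : Nonempty (Sylow 2 (_root_.Matrix.SpecialLinearGroup (Fin 2) F)) := inferInstance
  obtain ⟨H⟩ : Nonempty (Sylow 2 (Equiv.Perm (Fin n))) := inferInstance
  obtain ⟨R, hR⟩ := exists_sylow hF n Q H
  obtain ⟨g, hg⟩ := MulAction.exists_smul_eq (Matrix.symplecticGroup (Fin n) F) P R
  -- `r > n`
  have hrn : n < r := by
    have h1 : ((Fintype.card F : ℕ) : ZMod r) ≠ 0 := by
      intro h0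
      rw [h0, orderOf_zero] at hord
      omega
    have h2 : 2 * n ∣ r - 1 := by
      rw [← hord]
      exact ZMod.orderOf_dvd_card_sub_one h1
    have h3 := Nat.le_of_dvd (by have := hr.one_lt; omega) h2
    omega
  set z := g * y * g⁻¹ with hz
  have hzr : z ^ r = 1 := by
    rw [hz, conj_pow, hyr, mul_one, mul_inv_cancel]
  have hz1 : z ≠ 1 := by
    intro h
    apply hy1
    have h1 : y = g⁻¹ * z * g := by rw [hz]; group
    rw [h1, h, mul_one, inv_mul_cancel]
  have hzR : ∀ x ∈ wr (Q : Subgroup (_root_.Matrix.SpecialLinearGroup (Fin 2) F)) (H : Subgroup (Equiv.Perm (Fin n))),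
      z * x * z⁻¹ ∈ wr (Q : Subgroup (_root_.Matrix.SpecialLinearGroup (Fin 2) F)) (H : Subgroup (Equiv.Perm (Fin n))) := by
    have hmem : ∀ x, x ∈ wr (Q : Subgroup (_root_.Matrix.SpecialLinearGroup (Fin 2) F)) (H : Subgroup (Equiv.Perm (Fin n))) ↔
        g⁻¹ * x * g ∈ (P : Subgroup (Matrix.symplecticGroup (Fin n) F)) := by
      intro x
      rw [← hR, ← hg, Sylow.coe_subgroup_smul, Subgroup.mem_pointwise_smul_iff_inv_smul_mem]
      rw [MulAut.smul_def, MulAut.conj_inv_apply]
    intro x hx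
    rw [hmem] at hx ⊢
    have h1 := (Subgroup.mem_normalizer_iff.1 hyP (g⁻¹ * x * g)).1 hx
    have h2 : y * (g⁻¹ * x * g) * y⁻¹ = g⁻¹ * (z * x * z⁻¹) * g := by rw [hz]; group
    rwa [h2] at h1
  choose ρ hρ using exists_map (F := F) hF hzR
  have hinj : Function.Injective ρ := by
    intro i j h
    apply VV_inj (F := F)
    apply Submodule.map_injective_of_injective (lm_injective z)
    rw [hρ, hρ, h]
  let π : Equiv.Perm (Fin n) := Equiv.ofBijective ρ (Finite.injective_iff_bijective.1 hinj)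
  have hπ : ∀ (k : ℕ) i, (VV (F := F) i).map (lm (z ^ k)) = VV ((π ^ k) i) := by
    intro k
    induction k with
    | zero =>
      intro i
      rw [pow_zero, map_one, pow_zero, Perm.one_apply]
      exact Submodule.map_id _
    | succ k ih =>
      intro i
      rw [pow_succ', map_mul]
      change (VV i).map ((lm z).comp (lm (z ^ k))) = _
      rw [Submodule.map_comp, ih, hρ, pow_succ', Perm.mul_apply]
      rfl
  have hπr : π ^ r = 1 := by
    ext1 i
    apply VV_inj (F := F)
    rw [← hπ, hzr, map_one, Perm.one_apply]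
    exact Submodule.map_id _
  have hπ1 : π = 1 := by
    rw [← orderOf_eq_one_iff]
    rcases (Nat.dvd_prime hr).1 (orderOf_dvd_of_pow_eq_one hπr) with h | h
    · exact h
    · exfalso
      have h1 := orderOf_dvd_card (x := π)
      rw [h, Fintype.card_perm, Fintype.card_fin, hr.dvd_factorial] at h1
      omega
  apply hz1
  refine eq_one_of_map hr (by omega) hzr fun i => ?_
  have h1 := hπ 1 i
  rwa [pow_one, pow_one, hπ1, Perm.one_apply] at h1

theorem wand_sp (hF : Odd (Fintype.card F)) (hn : 2 ≤ n) :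
    Wand (Matrix.symplecticGroup (Fin n) F) := by
  obtain ⟨r, hr, hr2, hord, y, hyr, hy1, hreal⟩ := H610.SpField.exists_elt F (two_ne hF) hn
  have hyo : orderOf y = r := orderOf_eq_prime hyr hy1 (hp := ⟨hr⟩)
  exact ⟨y, by rw [hyo]; exact hr.odd_of_ne_two hr2, hreal, not_mem_normalizer hF hn hr hord hyr hy1⟩

end fin

/-- `Wand` passes to quotients by normal 2-subgroups. -/
theorem wand_quotient {G : Type*} [Group G] [Finite G] (Z : Subgroup G) [Z.Normal]
    (hZ : IsPGroup 2 Z) (h : Wand G) : Wand (G ⧸ Z) := by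
  obtain ⟨x, h1, h2, h3⟩ := h
  refine ⟨QuotientGroup.mk x, ?_, ?_, ?_⟩
  · exact h1.of_dvd_nat (orderOf_map_dvd (QuotientGroup.mk' Z) x)
  · obtain ⟨c, hc⟩ := isConj_iff.1 h2
    refine isConj_iff.2 ⟨QuotientGroup.mk c, ?_⟩
    rw [← QuotientGroup.mk_inv, ← QuotientGroup.mk_mul, ← QuotientGroup.mk_mul, hc,
      QuotientGroup.mk_inv]
  · intro Q hQ
    have hker : IsPGroup 2 (QuotientGroup.mk' Z).ker := by
      rw [QuotientGroup.ker_mk']
      exact hZ
    have hr : (Q : Subgroup (G ⧸ Z)) ≤ (QuotientGroup.mk' Z).range := by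
      rw [MonoidHom.range_eq_top.2 (QuotientGroup.mk'_surjective Z)]
      exact le_top
    let P : Sylow 2 G := Q.comapOfKerIsPGroup (QuotientGroup.mk' Z) hker hr
    apply h3 P
    rw [Subgroup.mem_normalizer_iff]
    intro g
    have h4 := (Subgroup.mem_normalizer_iff.1 hQ) (QuotientGroup.mk g)
    change (QuotientGroup.mk g : G ⧸ Z) ∈ (Q : Subgroup (G ⧸ Z)) ↔
      (QuotientGroup.mk (x * g * x⁻¹) : G ⧸ Z) ∈ (Q : Subgroup (G ⧸ Z))
    rw [QuotientGroup.mk_mul, QuotientGroup.mk_mul, QuotientGroup.mk_inv]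
    exact h4

/-- **The row `PSp(2m, q)`, `q` odd.** -/
theorem wand_psp {F : Type*} [Field F] [Fintype F] (hF : Odd (Fintype.card F)) {m : ℕ}
    (hm : 2 ≤ m) : Wand (Cfsg.PSp m F) := by
  refine wand_quotient _ ?_ (wand_sp hF hm)
  have h1 := S0246.result (F := F) rfl m (by omega)
  have h2 : Nat.gcd 2 (Fintype.card F - 1) = 2 := by
    obtain ⟨k, hk⟩ := hF
    rw [hk, Nat.add_sub_cancel]
    exact Nat.gcd_eq_left (dvd_mul_right 2 k)
  exact IsPGroup.of_card (n := 1) (by rw [h1, h2, pow_one])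

theorem wand_pspChar {p : ℕ} {G : Type*} [Group G] (hp : p ≠ 2) (h : Cfsg.IsPSpChar p G) :
    Wand G := by
  obtain ⟨F, _, _, _, m, hm, -, ⟨e⟩⟩ := h
  have hodd : Odd (Fintype.card F) := by
    obtain ⟨n, hpp, hn⟩ := FiniteField.card F p
    rw [hn]
    exact (hpp.odd_of_ne_two hp).pow
  exact (wand_psp hodd hm).congr e.symm

end Cfsg.Agent.H513.WandPSp

private theorem dce_78a52f0c9ec0 : _root_.True := by
  try have : _root_.True := by simp only [_root_.Cfsg.Agent.H513.WandPSp.sb.eq_1]
  try have : _root_.True := by simp only [_root_.Cfsg.Agent.H513.WandPSp.VV.eq_1]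
  try have : _root_.True := by simp only [_root_.Cfsg.Agent.H513.WandPSp.cp.eq_1]
  exact _root_.True.intro
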