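import Cfsg.Agent.CpAutHNFive.Main
import Cfsg.Agent.H513.AbTools
import Cfsg.Agent.H513.NilpHN
import Cfsg.Agent.H513.AbLy
import Cfsg.Agent.H513.NilpExt_m3
import Cfsg.Agent.J2Type.FourSelfCent
import Cfsg.Agent.FastGrp
import Cfsg.Agent.Prune
set_option linter.all false

section
prune_inst 0x7f00000000000000000000000000000000000000000000000000000000000000000000000000000000000000000000000000000000000000000000000000000000000000000000000000000000000000003fffffffffffffffffffffffffffbeffbdffffffff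

-- part: H513/HNTau
section
set_option linter.all false
open scoped Cfsg.Agent.FastGrp

-- part: H513/HNCert
section
/-!
# Certificates for the centralizers of elements of order 5, 7, 11 of `2.HS.2` (helper513)
-/

set_option autoImplicit false
set_option maxRecDepth 100000

namespace Cfsg.Agent.H513.HNCert

open Cfsg.Agent.HN.Pres Cfsg.Agent.HN.HS100 Cfsg.Agent.HN.P1408 Cfsg.Agent.HN.H0Basic
open Cfsg.Agent.HN.Syl Cfsg.Agent.HN.Classes Cfsg.Agent.HN.ColChain Cfsg.Agent.HN.CentUp
open Cfsg.Agent.CpAutHNFive.HTab Cfsg.Agent.CpAutHNFive.HFacts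
open Subgroup

/-- tables for `c5` -/
def c5V : List ℕ := [0x8801c2180f06a0ac188600440402f01d0820f42505502c0a02e84e09a02c0c81203e15c1502f0b80180602609e0782a0320a604400038008004068140920e82904b090094108150c41141003c07200c2c00208e0b41802c0680fc070630380a4210230100dc3081706c16c200240120140505004e1442c83b0b404c1f04c0661580d82e03417c0c046]
/-- chain for `c5` -/
def c5BS : List (ℕ × ℕ × ℕ × ℕ) := [
  (45, 50, 0x7d0000007d0000007d0000004000000040000000400000007d00000040000000400000007d00000040000000400000004000000040000000400000004000000040000000400000007d0000007d0000007d0000007d0000007d0000007d0000004000000040000000400000007d0000004000000040000000400000007d0000007d00000040000000400000007d000000400000007d000000400000007d000000400000007d000000400000007d000000400000007d00000040000000400000007d0000007d0000007d0000007d0000007d000000400000007d0000007d00000040000000400000004000000040000000400000007d0000007d0000007d00000040000000400000007d0000007d000000400000004000000040000000400000007d000000400000007d0000007d0000007d000000400000007d0000007d0000007d0000007d0000007d0000007d000000400000007d00000040000000400000007d0000007d0000007d0000007d0000007d000000400000007d0000004000000040000000400000007d00000040,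 0x85c0000007d0000007d),
  (14, 5, 0x81bf10005033d000430c10007d00000040000000400000005033d0004cc400004cc4000081bf1000400000004cc400004000000040000000400000007d0000004000000040000000430c10005033d000430c100081bf1000430c1000430c10004cc40000400000007d00000081bf1000400000004cc400007d000000430c1000430c1000400000004cc40000430c100040000000430c1000400000005033d0004000000081bf10004cc4000081bf10004cc400005033d00040000000400000005033d000430c100081bf1000430c1000430c10004cc40000ac1c900081bf10004000000040000000400000004cc40000400000005033d000430c10005033d000400000007d0000005033d000fb89d0007d000000400000007d00000040000000430c100040000000430c100081bf1000430c100040000000430c1000430c1000430c1000430c1000430c1000430c10004000000081bf10007d000000400000005033d000430c1000430c1000430c100081bf10007d000000430c100040000000400000007d0000005033d00040000, 0x69d46400081bf1000430c1),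
  (57, 4, 0xad66e23115f72ba0556627605ca6bf2046535f9046535f914d0ddea149905f9149905f906157af3046535f91202c239046535f90525f639046535f90a897bf2046535f9046535f90b9627d6115f72ba0556627606157af307a2d52a05566276149905f9046535f905ca6bf206157af30525f639112935f905ca6bf20556627607a2d52a046535f91202c23905566276046535f907a2d52a077145f9115f72ba046535f906157af31202c23906157af3112935f9115f72ba046535f90525f639115f72ba07a2d52a06157af307a2d52a049541fa149905f92f853c7306157af3046535f90525f639046535f91202c239046535f914d0ddea05566276115f72ba046535f905ca6bf21239653608049d2105ca6bf2046535f90a897bf2046535f907a2d52a046535f9049541fa06157af3049541fa0525f639049541fa049541fa049541fa07a2d52a05566276049541fa046535f90d4247fb0a897bf2046535f9115f72ba07a2d52a05566276049541fa06157af305ca6bf2055662760525f639077145f90a897bf2115f72ba046535f9, 0xaceed35e1202c2390a897bf2)]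
/-- last table for `c5` -/
def c5T : ℕ := 0x1744ed2e2d83aa8b23b8cbe837b3d32502c53bbe0a44ba8e17fde8491bcce34f1bcce34f0d8fbd711000dde929315c2d0a44ba8e2ef2fc5902c53bbe05fbc43402c53bbe02c53bbe051f3a260c1523bd23b923130b7f2f18104f450123b923131bcce34f1000dde937b3d3250b7f2f182eda89fe32d4256139bce14223b92313104f45010a44ba8e154f55c423b9231302c53bbe104f45012dae1e320c1523bd3843d36a0d8fbd71013fbdf50b7f2f18117f21c30c1523bd02c53bbe2ef2fc590c1523bd239d2f680b7f2f18104f4501046cd41f1bcce34f30b5afad0b7f2f183843d36a2ef2fc5902c53bbe29315c2d0a44ba8e17fde84923b8cbe82d83aa8b02c53bbe37b3d325242d8ee739fb68d937b3d3253843d36a0f91025102c53bbe239d2f6802c53bbe046cd41f0b7f2f1832c5fbbf2ef2fc5932c5fbbf046cd41f2cc1cc94104f450123b923132cc1cc941000dde92da5a87d1a5de9150a44ba8e0c1523bd239d2f6823b923132cc1cc940b7f2f1837b3d32523b923132ef2fc591a664c0705fbc4342d83aa8b0a44ba8e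
/-- ranks for `c5` -/
def c5R : ℕ := 0xc094000330840d42c01f0b60642481000e0a01f80208a1340b85401809c0900a03a12c2a82001a0ac2980f05e014018430760542f0520581000204106c180220560a20701502e0c20782402606e1382782902c0440084a08c0d01e03e0ae0b40d03d0361401d05c0b20c80c05a01c0500585d08e18c310130be0e4108240980c01183107002011009
/-- order for `c5` -/
def c5O : ℕ := 0x1c034178360160f4080180b60500b85d03e0d02485008a0f01981a0520a8290070940902c82d01e08c2983508017c1c03a0aa0800e02107e064050030560dc2f0220c0058020060860c00f03b08c0c41405609c0b03100800a004048480b80b8258320360742d0150a209c1f0120181341305808804c2384f022130000020ae18c2103908215012861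

theorem c5_le : Nat.card (cenA [[0, 2, 4, 2, 0, 2, 2, 2, 1, 3, 3, 4, 2, 4, 0, 2, 4, 1]]) ≤ 1000 :=
  card_cenA_le (VS := c5V) (bs := c5BS) (T := c5T) (R := c5R) (O := c5O) (by decide +kernel) (by decide +kernel)

/-- tables for `c7` -/
def c7V : List ℕ := [0x2c1381b0450181741c8440561340701501a1542102507014c250610000681e0580920b8118480080a00d819054074048500160c42a0220ac18c2881e06e070310290100481684106007c1e8400680ec278520060040a02c02e15c230330bc084218240960e8190470c00d42c83e0b417c0781804c0080985c00c16c1002f0980441380502001c1f80a, 0x6a0680e01b0b80e4288190680f0010590261080e81403c0e0170360140e81101504607c0b84800a1482583207610c1006100c0b4128570aa0582502106e0902704f05e17c1e8090821782a050052158000530200fc1f0400c0034140080ba1181502c09218c0900408a1880703109a0301304700201c2d0440220ac198300b003c018270301300585b]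
/-- chain for `c7` -/
def c7BS : List (ℕ × ℕ × ℕ × ℕ) := [
  (80, 14, 0x1000000010000000133100001f400000100000001f4000001f40000010000000100000001331000010000000100000001331000010000000100000001000000010000000100000001f40000013310000100000001000000013310000100000001f4000001f4000001f40000044a8000010000000100000001f40000010000000100000001000000010000000133100001000000010000000100000001331000010000000100000001f4000001000000044a8000013310000100000001000000010000000100000001000000010000000100000001f400000100000001331000010000000100000001000000010000000100000001000000010000000133100001f4000001331000010000000100000001f4000001000000010000000133100001f4000001000000010000000100000001f400000100000001000000010000000133100001000000010000000100000001000000010000000133100001000000010000000100000001000000010000000100000001000000010000000100000001000000010000000100000001000, 0x18b44000013310000133100001331),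
  (68, 1, 0x46535f9046535f93543dfa308381539112935f90525f6390525f639112935f9112935f9049541fa077145f9046535f907a2d52a077145f9112935f905ca6bf2046535f9046535f90525f639185c2f1a05ca6bf2077145f907a2d52a05ca6bf20525f6390525f639083815390649e9e105ca6bf2046535f91202c2390a897bf2112935f905ca6bf2046535f907a2d52a077145f90a897bf2112935f9115f72ba046535f905ca6bf20525f639046535f90649e9e1062e1aa5046535f9077145f9046535f905ca6bf2112935f905ca6bf2112935f90525f6390a897bf2049541fa05ca6bf205ca6bf2112935f9046535f9046535f9046535f9077145f9049541fa1202c23906157af3046535f9046535f90525f639046535f9077145f906157af306f75c32112935f9112935f9112935f906f75c32046535f9046535f9112935f906157af3077145f9046535f9077145f9046535f9112935f9115f72ba0a897bf2112935f9077145f9046535f9077145f9112935f905ca6bf2046535f9046535f9046535f90a897bf2046535f9046535f9, 0xaee31a1d0a897bf205ca6bf2112935f9)]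
/-- last table for `c7` -/
def c7T : ℕ := 0xaf00fc90187f5331c5440781a7e38612ee63c422cc9dfa42962f10e2ee63c422ee63c420476d09f14a4e8fc3a195b7225fbb2a22ddb53b70dbc520c124e325d0af00fc93a195b72154ec7b620720f84304839a332b2ca25051d8416304839a31ed852462cc9dfa41e89d5c92b78588c124e325d1883a0e23a0776ec07d52cc32ee63c42304839a33a195b720f9ee83a33c7e59b195050d622346be334ab78ab0af00fc9304839a31538fcf60187f533324591d321f22aa10df28b3214a4e8fc3a195b72114c2c002ee63c42304839a32ee63c42036d43b0195050d613546f42304839a3304839a32ee63c423a195b720af00fc90af00fc933c7e59b0d7caf082eedb58d3834311812670a223a195b72154ec7b61ff1b47214a4e8fc1c1a5a92148a4dac0dbc520c04c1a53c2ba2b7a639abdc6d18ad80dc3a195b722ee63c423834311814a4e8fc3a195b7232b2ca253a195b7222346be313d795da195050d62ee63c4214a4e8fc3a195b7214a4e8fc0dbc520c304839a33a195b721883a0e20187f53314bd08b018ad80dc3a195b72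
/-- ranks for `c7` -/
def c7R : ℕ := 0xc40ac2b8590381382a0210a007c1d02503c0d40584305e0ec0080308218c2680806e11c1706001a0281800004c0441683f0701102e80e0260f41505805812c278320500181985a0200f0250160280600b8190521182a84806c1001000908a16c2980f0440680105206808c138040841581f06103a1781881500a1301203901806c248120b817c03851
/-- order for `c7` -/
def c7O : ℕ := 0x9c18c080480040381e80303c0c0300380c20481285d03a0600005b06a1782680a06c0b4028240940980f83e0a804c278220800441d02e0a41640403f09608c2b0170620d0068450a6124208370c40e41383302a10c2c00902c06c2e0210b415c0785f00c0681402a0520b00602b0760102102f0380f0238070aa1181004c0020c8058140a006428844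

theorem c7_le : Nat.card (cenA [[3, 1, 4, 3, 0, 3, 3, 3, 1, 4, 3, 0, 3, 3], [3, 1, 4, 3, 0, 3, 3, 3, 1, 4, 3, 0, 3, 3, 3, 1, 4, 3, 0, 3, 3, 3, 1, 4, 3, 0, 3, 3]]) ≤ 14 :=
  card_cenA_le (VS := c7V) (bs := c7BS) (T := c7T) (R := c7R) (O := c7O) (by decide +kernel) (by decide +kernel)

/-- tables for `c11` -/
def c11V : List ℕ := [0x2c1682484c0b81381383d05e0941f85e0900981804102a148110000be0a82e8620ae0d4140610700e81080b05c1802281c07c14c0f0420c61441900902806c158230320d8088290aa03c1c8580620202805903e0280102d0060d00600e0881502003302005c0d04f0760042582405810c2680608c010100180940f02d80d08e0141b8130241580e807, 0x20941406207a0a80f81e0aa0081f04e0c2028148450961481a0070b80201385a0900ac2c8490121440604a01e130108330a60542a06002c0881b05b0480401880303406c268500601181905e0220340003f0880f02b03902408c0c0040161040e01900c0ec0b85f0c60742b82d0b00b82e80507404c0704f06a108178200700dc0a02c08609820047, 0x3a0082c85a03c020220540601582982a0920f0280210ae1481184707a0340f8250c20c41f8280b60880c03508c1880601902a12c2084c0020d00d82f05a0180881202e0402e8000520e81b04e09a0800383e0161081303208600c278130941141981a00a18c1d85c02c100240390bc03c138370a20b00205f0561802a80e0120501205805c0280e038]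
/-- chain for `c11` -/
def c11BS : List (ℕ × ℕ × ℕ × ℕ) := [
  (43, 11, 0x4cc4000040000000400000004000000040000000430c100090b4000040000000400000004000000040000000430c1000400000004000000040000000400000004000000122c68000400000004000000040000000430c100090b40000400000004000000090b40000400000004000000040000000400000004000000090b400004000000040000000400000004cc40000400000004000000040000000400000004cc400004000000081bf10004000000081bf100081bf100090b40000400000004cc4000081bf100090b4000040000000400000004000000081bf1000430c100090b40000430c1000400000004000000090b40000400000004000000081bf1000400000004000000040000000430c100090b40000400000004cc400004cc4000081bf10004cc400004cc40000400000004cc400004cc400004000000081bf1000430c10004000000090b4000081bf100040000000430c1000430c10004000000090b400004000000040000000430c10004000000081bf100081bf1000430c100040000000400000004cc4000040000, 0x765ee400090b4000090b4000090b4000090b40)]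
/-- last table for `c11` -/
def c11T : ℕ := 0x1000dde9117f21c31a664c072ef2fc5902c53bbe104f45010c6f740a02c53bbe117f21c337b3d3252ef2fc5923b9231302c53bbe2ef2fc592ef2fc59117f21c337b3d32538fd523f37b3d32537b3d32537b3d3250c1523bd01b2dc4c1a664c0702c53bbe2216c95d117f21c32ef2fc5902c53bbe1bcce34f2ef2fc590a44ba8e02c53bbe37b3d32537b3d32509824cb81a664c07117f21c32ef2fc5937034a1f1000dde937034a1f2cc1cc942ef2fc59227e75d623b8cbe80c6f740a02c53bbe1c324e352cc1cc9434c0299c1a664c0737b3d3252ef2fc592cc1cc9432c5fbbf270525b60b7f2f18117f21c337b3d325295f109b304e789402c53bbe147579bc02c53bbe02c53bbe304e7894104f450107726daf1a664c070214a07d0c9aab73227e75d61000dde939bce14237034a1f1000dde91000dde902c53bbe2d83aa8b32c5fbbf02c53bbe0400e5ac2d83aa8b304e78940c1523bd23b923131bcce34f025c9d221bcce34f1a664c0732c5fbbf02c53bbe147579bc23b8cbe80b7f2f1802c53bbe02c53bbe1000dde902c53bbe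
/-- ranks for `c11` -/
def c11R : ℕ := 0xae064218230480bc2605a0ac0700d83506e0801a04000817c0100801a124318390b2024188270840f0078450940180a0180c01481681009e00c31017076098190580020f810853022068240410b60540b01e0000ac2e82208e1181703a00a0d81980a0c20e00e81207e0c00f84e0881701504d01c0941603d0180a42a84b0bc01c058130a215028028
/-- order for `c11` -/
def c11O : ℕ := 0x9a0e40d83f0a401c12812056170258340c616c048020600f8018010760500805d01010c2702d046088220130c211c1605402e0c80604606e0802601a0ae0782c05503a0d4248160bc0841e80d04c044050000900d80705f0c00901885602a0a00c85a0b20b8310400700a4150410080601783c08a03c2780b00a0702505000c1080f85307414419827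

theorem c11_le : Nat.card (cenA [[3, 4, 2, 4, 0, 3, 3], [3, 4, 2, 4, 0, 3, 3, 3, 4, 2, 4, 0, 3, 3], [3, 4, 2, 4, 0, 3, 3, 3, 4, 2, 4, 0, 3, 3, 3, 4, 2, 4, 0, 3, 3]]) ≤ 11 :=
  card_cenA_le (VS := c11V) (bs := c11BS) (T := c11T) (R := c11R) (O := c11O) (by decide +kernel) (by decide +kernel)

end Cfsg.Agent.H513.HNCert
end

-- part: H513/HNH0
section
/-!
# Centralizers of elements of order 5, 7, 11 of `2.HS.2` (helper513)
-/

set_option autoImplicit false
set_option maxRecDepth 100000

namespace Cfsg.Agent.H513.HNH0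

open Cfsg.Agent.HN.Pres Cfsg.Agent.HN.HS100 Cfsg.Agent.HN.P1408 Cfsg.Agent.HN.H0Basic
open Cfsg.Agent.HN.Syl Cfsg.Agent.HN.Classes Cfsg.Agent.HN.ColChain Cfsg.Agent.HN.CentUp
open Cfsg.Agent.CpAutHNFive.HTab Cfsg.Agent.CpAutHNFive.HFacts
open Cfsg.Agent.H513.HNCert
open Subgroup

theorem cent_le_wset {ws : List (List ℕ)} {g : H0} (h : ∀ w ∈ ws, ∃ k : ℕ, hw w = g ^ k) :
    centralizer ({g} : Set H0) ≤ centralizer (wset ws) := by
  intro c hc
  have hcg : c * g = g * c := mem_centralizer_singleton_iff.1 hc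
  rw [mem_centralizer_iff]
  rintro _ ⟨w, hw', rfl⟩
  obtain ⟨k, hk⟩ := h w hw'
  rw [hk]
  exact ((show Commute c g from hcg).pow_right k).eq.symm

theorem card_le_of {ws : List (List ℕ)} {g : H0} {N : ℕ} (h : ∀ w ∈ ws, ∃ k : ℕ, hw w = g ^ k)
    (hN : Nat.card (cenA ws) ≤ N) : Nat.card ↥(centralizer ({g} : Set H0)) ≤ 2 * N := by
  have := finite_H0
  exact (Nat.card_le_card_of_injective _ (inclusion_injective (cent_le_wset h))).trans (card_centralizer_le hN)

/-- element of order 14 -/
def wr : List ℕ := [3, 1, 4, 3, 0, 3, 3]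
/-- element of order 7 -/
def w7 : List ℕ := [3, 1, 4, 3, 0, 3, 3, 3, 1, 4, 3, 0, 3, 3]
/-- element of order 11 -/
def w11 : List ℕ := [3, 4, 2, 4, 0, 3, 3]

theorem w7_eq : hw w7 = hw wr ^ 2 := by
  rw [show w7 = wr ++ wr from rfl, hw_append, pow_two]

theorem w7_pow : hw w7 ^ 7 = 1 := pow_one_of (by decide +kernel)
theorem w11_pow : hw w11 ^ 11 = 1 := pow_one_of (by decide +kernel)

theorem w7_ne : hw w7 ≠ 1 := by
  rw [← hw_nil]
  exact hw_ne (p := 3) (by decide +kernel) (by decide) (by norm_num) (by decide +kernel)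
theorem w11_ne : hw w11 ≠ 1 := by
  rw [← hw_nil]
  exact hw_ne (p := 3) (by decide +kernel) (by decide) (by norm_num) (by decide +kernel)

theorem order_w7 : orderOf (hw w7) = 7 := by
  have : Fact (Nat.Prime 7) := ⟨by norm_num⟩
  exact orderOf_eq_prime w7_pow w7_ne
theorem order_w11 : orderOf (hw w11) = 11 := by
  have : Fact (Nat.Prime 11) := ⟨by norm_num⟩
  exact orderOf_eq_prime w11_pow w11_ne

theorem card_le_seven : Nat.card ↥(centralizer ({hw w7} : Set H0)) ≤ 28 := by
  refine card_le_of (fun w hw' => ?_) c7_le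
  rcases List.mem_cons.1 hw' with rfl | hw'
  · exact ⟨1, by rw [pow_one]; rfl⟩
  rcases List.mem_cons.1 hw' with rfl | hw'
  · refine ⟨2, ?_⟩
    rw [pow_two, ← hw_append]
    rfl
  · exact absurd hw' List.not_mem_nil

theorem card_le_eleven : Nat.card ↥(centralizer ({hw w11} : Set H0)) ≤ 22 := by
  refine card_le_of (fun w hw' => ?_) c11_le
  rcases List.mem_cons.1 hw' with rfl | hw'
  · exact ⟨1, by rw [pow_one]; rfl⟩
  rcases List.mem_cons.1 hw' with rfl | hw'
  · refine ⟨2, ?_⟩
    rw [pow_two, ← hw_append]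
    rfl
  rcases List.mem_cons.1 hw' with rfl | hw'
  · refine ⟨3, ?_⟩
    rw [pow_succ, pow_two, ← hw_append, ← hw_append]
    rfl
  · exact absurd hw' List.not_mem_nil

theorem card_le_five : Nat.card ↥(centralizer ({hw w1} : Set H0)) ≤ 2000 := by
  refine card_le_of (fun w hw' => ?_) c5_le
  rcases List.mem_cons.1 hw' with rfl | hw'
  · exact ⟨1, by rw [pow_one]; rfl⟩
  · exact absurd hw' List.not_mem_nil

/-! ### `w7` -/

theorem wr_pow : hw wr ^ 14 = 1 := pow_one_of (by decide +kernel)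

theorem τ_not_mem_wr : τ ∉ zpowers (hw wr) := by
  intro h
  obtain ⟨k, hk, h1⟩ := mem_zpowers_lt (by norm_num) wr_pow h
  rw [← hw_rp, ← hw_τ] at h1
  have key : ∀ k < 14, tr [0, 0] 3 ≠ tr (rp k wr) 3 ∨ tr [0, 0] 4 ≠ tr (rp k wr) 4 := by decide +kernel
  have ok : ∀ k < 14, okw (rp k wr) = true := by decide +kernel
  rcases key k hk with h2 | h2
  · exact hw_ne (by decide +kernel) (ok k hk) (by norm_num) h2 h1
  · exact hw_ne (by decide +kernel) (ok k hk) (by norm_num) h2 h1

theorem order_wr : orderOf (hw wr) = 14 := by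
  have h1 : orderOf (hw wr) ∣ 14 := orderOf_dvd_of_pow_eq_one wr_pow
  have h2 : ¬ orderOf (hw wr) ∣ 7 := by
    intro h
    have h3 := orderOf_dvd_iff_pow_eq_one.1 h
    rw [← hw_rp, ← hw_nil] at h3
    exact hw_ne (p := 3) (by decide +kernel) (by decide) (by norm_num) (by decide +kernel) h3
  have h3 : ¬ orderOf (hw wr) ∣ 2 := by
    intro h
    have h4 := orderOf_dvd_iff_pow_eq_one.1 h
    rw [← w7_eq] at h4
    exact w7_ne h4
  have h4 : orderOf (hw wr) ∈ Nat.divisors 14 := Nat.mem_divisors.2 ⟨h1, by norm_num⟩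
  have h5 : Nat.divisors 14 = {1, 2, 7, 14} := by decide
  rw [h5] at h4
  simp only [Finset.mem_insert, Finset.mem_singleton] at h4
  rcases h4 with h4 | h4 | h4 | h4
  · exact absurd (h4.dvd.trans (one_dvd 7)) h2
  · exact absurd h4.dvd h3
  · exact absurd h4.dvd h2
  · exact h4

theorem wr_mem : hw wr ∈ centralizer ({hw w7} : Set H0) := by
  rw [mem_centralizer_singleton_iff, w7_eq]
  exact (Commute.refl (hw wr)).pow_right 2

theorem τ_mem (g : H0) : τ ∈ centralizer ({g} : Set H0) := mem_centralizer_singleton_iff.2 (τ_comm g).symm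

/-- **the centralizer of `w7`** -/
theorem cent_seven : Nat.card ↥(centralizer ({hw w7} : Set H0)) = 28 ∧
    ∀ g ∈ centralizer ({hw w7} : Set H0), ∃ i j : ℤ, g = hw wr ^ i * τ ^ j := by
  have := finite_H0
  obtain ⟨E, hE, hm⟩ := exists_prod (C := ↥(centralizer ({hw w7} : Set H0))) (a := ⟨hw wr, wr_mem⟩) (b := ⟨τ, τ_mem _⟩)
    (Subtype.ext (τ_comm (hw wr))) (by
      rw [inf_comm]
      refine inf_eq_bot_of_prime Nat.prime_two (by rw [← Subgroup.orderOf_coe]; exact order_τ) ?_
      intro h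
      obtain ⟨k, hk⟩ := mem_zpowers_iff.1 h
      exact τ_not_mem_wr (mem_zpowers_iff.2 ⟨k, congrArg Subtype.val hk⟩))
  rw [← Subgroup.orderOf_coe, ← Subgroup.orderOf_coe] at hE
  have hE' : Nat.card ↥E = 28 := by
    rw [hE]
    change orderOf (hw wr) * orderOf τ = 28
    rw [order_wr, order_τ]
  have h1 : E = ⊤ := by
    apply Subgroup.eq_top_of_le_card
    rw [hE']
    exact card_le_seven
  refine ⟨?_, fun g hg => ?_⟩
  · rw [h1, Subgroup.card_top] at hE'
    exact hE'
  · have h2 : (⟨g, hg⟩ : ↥(centralizer ({hw w7} : Set H0))) ∈ E := by rw [h1]; exact mem_top _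
    obtain ⟨i, j, h3⟩ := hm _ h2
    exact ⟨i, j, congrArg Subtype.val h3⟩

theorem card_seven : Nat.card ↥(centralizer ({hw w7} : Set H0)) = 28 := cent_seven.1

theorem comm_seven {a b : H0} (ha : a * hw w7 = hw w7 * a) (hb : b * hw w7 = hw w7 * b) : a * b = b * a := by
  obtain ⟨i, j, rfl⟩ := cent_seven.2 a (mem_centralizer_singleton_iff.2 ha)
  obtain ⟨k, l, rfl⟩ := cent_seven.2 b (mem_centralizer_singleton_iff.2 hb)
  have h1 : ∀ (i j : ℤ), Commute (hw wr ^ i) (τ ^ j) := fun i j =>
    ((show Commute (hw wr) τ from τ_comm (hw wr)).zpow_left i).zpow_right j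
  exact ((((Commute.refl (hw wr)).zpow_left i).zpow_right k).mul_right (h1 i l)).mul_left
    (((h1 k j).symm).mul_right (((Commute.refl τ).zpow_left j).zpow_right l))

theorem pow_seven {a : H0} (ha : a * hw w7 = hw w7 * a) : a ^ 14 = 1 := by
  obtain ⟨i, j, rfl⟩ := cent_seven.2 a (mem_centralizer_singleton_iff.2 ha)
  have h1 : Commute (hw wr ^ i) (τ ^ j) := ((show Commute (hw wr) τ from τ_comm (hw wr)).zpow_left i).zpow_right j
  have h2 : (hw wr ^ i) ^ 14 = 1 := by
    rw [← zpow_natCast, ← zpow_mul, mul_comm, zpow_mul, zpow_natCast, wr_pow, one_zpow]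
  have h3 : (τ ^ j) ^ 14 = 1 := by
    rw [← zpow_natCast, ← zpow_mul, mul_comm, zpow_mul, zpow_natCast, show 14 = 2 * 7 from rfl, pow_mul, τ_sq,
      one_pow, one_zpow]
  rw [h1.mul_pow, h2, h3, one_mul]

/-! ### `w11` -/

theorem card_eleven : Nat.card ↥(centralizer ({hw w11} : Set H0)) = 22 := by
  have := finite_H0
  have h11 : 11 ∣ Nat.card ↥(centralizer ({hw w11} : Set H0)) := CentTools.dvd_cent order_w11 rfl
  have h2 : 2 ∣ Nat.card ↥(centralizer ({hw w11} : Set H0)) := CentTools.dvd_cent order_τ (τ_comm (hw w11))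
  have h22 : 22 ∣ Nat.card ↥(centralizer ({hw w11} : Set H0)) :=
    Nat.Coprime.mul_dvd_of_dvd_of_dvd (by norm_num : Nat.Coprime 2 11) h2 h11
  exact le_antisymm card_le_eleven (Nat.le_of_dvd Nat.card_pos h22)

/-! ### `w1` -/

theorem exists_conj_wz : ∃ (g : H0) (m : ℕ), 1 ≤ m ∧ m < 5 ∧ g⁻¹ * hw wz * g = hw w1 ^ m := by
  have h : ∀ e ∈ tb, e.1 = 0 → e.2.1 = 0 → e.2.2.1 = 1 → tP.getD e.2.2.2.2.2.1 [] = w1 := by decide
  obtain ⟨e, he, h1, h2, h3⟩ := (tb_cover 0 (by norm_num) 0 (by norm_num) 1 (by norm_num)).resolve_left (by simp)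
  obtain ⟨h4, h5, h6, h7⟩ := tb_ok e he
  refine ⟨hw (cwd e), e.2.2.2.2.2.2, h6, h7, ?_⟩
  have h8 := hw_eq h4
  rw [h e he h1 h2 h3, h1, h2, h3, hw_append, hw_append, elw, hw_append, hw_append, hw_rp, hw_rp, hw_rp, hw_rp,
    pow_zero, pow_zero, pow_one, one_mul, one_mul] at h8
  rw [mul_assoc, h8, inv_mul_cancel_left]

theorem dvd_wz : 5 ^ 3 ∣ Nat.card ↥(centralizer ({hw wz} : Set H0)) := by
  have := finite_H0
  rw [← card_closure c5 d5 z5 z1 cz dz cd]
  apply card_dvd_of_le
  rw [closure_le]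
  rintro _ (rfl | rfl)
  · exact mem_centralizer_singleton_iff.2 cz
  · exact mem_centralizer_singleton_iff.2 dz

theorem cent_pow_eq {G : Type*} [Group G] {x : G} {p m : ℕ} (hp : p.Prime) (hx : orderOf x = p) (h1 : 1 ≤ m) (h5 : m < p) :
    centralizer ({x ^ m} : Set G) = centralizer ({x} : Set G) := by
  obtain ⟨k, hk⟩ := exists_pow_eq_self_of_coprime (x := x) (n := m) (by
    rw [hx]
    exact ((Nat.Prime.coprime_iff_not_dvd hp).2 (fun h => by
      have := Nat.le_of_dvd (by omega) h
      omega)).symm)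
  apply le_antisymm
  · intro g hg
    rw [mem_centralizer_singleton_iff] at hg ⊢
    have h2 := ((show Commute g (x ^ m) from hg).pow_right k).eq
    rwa [hk] at h2
  · intro g hg
    rw [mem_centralizer_singleton_iff] at hg ⊢
    exact ((show Commute g x from hg).pow_right m).eq

theorem card_cent_conj {G : Type*} [Group G] (g x : G) : Nat.card ↥(centralizer ({g * x * g⁻¹} : Set G)) =
    Nat.card ↥(centralizer ({x} : Set G)) := by
  refine Nat.card_congr
    { toFun := fun c => ⟨g⁻¹ * c * g, ?_⟩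
      invFun := fun c => ⟨g * c * g⁻¹, ?_⟩
      left_inv := fun c => Subtype.ext (by simp [mul_assoc])
      right_inv := fun c => Subtype.ext (by simp [mul_assoc]) }
  · have h := mem_centralizer_singleton_iff.1 c.2
    rw [mem_centralizer_singleton_iff]
    calc g⁻¹ * c * g * x = g⁻¹ * (c * (g * x * g⁻¹)) * g := by group
      _ = x * (g⁻¹ * c * g) := by rw [h]; group
  · have h := mem_centralizer_singleton_iff.1 c.2
    rw [mem_centralizer_singleton_iff]
    calc g * c * g⁻¹ * (g * x * g⁻¹) = g * (c * x) * g⁻¹ := by group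
      _ = g * x * g⁻¹ * (g * c * g⁻¹) := by rw [h]; group

/-- **`3 ∤ |C(w1)|`** -/
theorem not_three : ¬ 3 ∣ Nat.card ↥(centralizer ({hw w1} : Set H0)) := by
  have := finite_H0
  have h125 : 5 ^ 3 ∣ Nat.card ↥(centralizer ({hw w1} : Set H0)) := by
    obtain ⟨g, m, h1, h5, h⟩ := exists_conj_wz
    have h2 := dvd_wz
    rw [← card_cent_conj g⁻¹, inv_inv, h, cent_pow_eq Nat.prime_five order_w1 h1 h5] at h2
    exact h2
  have h8 : 8 ∣ Nat.card ↥(centralizer ({hw w1} : Set H0)) := by
    have h1 := mul_order_dvd (C := ↥(centralizer ({hw w1} : Set H0)))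
      (a := ⟨hw wq, mem_centralizer_singleton_iff.2 q_comm⟩) (b := ⟨τ, τ_mem _⟩)
      (Subtype.ext (τ_comm (hw wq))) (by
        rw [inf_comm]
        refine inf_eq_bot_of_prime Nat.prime_two (by rw [← Subgroup.orderOf_coe]; exact order_τ) ?_
        intro h
        obtain ⟨k, hk⟩ := mem_zpowers_iff.1 h
        exact τ_not_mem (mem_zpowers_iff.2 ⟨k, congrArg Subtype.val hk⟩))
    rw [← Subgroup.orderOf_coe, ← Subgroup.orderOf_coe] at h1
    change orderOf (hw wq) * orderOf τ ∣ _ at h1
    rw [order_q, order_τ] at h1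
    exact h1
  intro h3
  have h24 : 24 ∣ Nat.card ↥(centralizer ({hw w1} : Set H0)) :=
    Nat.Coprime.mul_dvd_of_dvd_of_dvd (by norm_num : Nat.Coprime 3 8) h3 h8
  have h3000 : 24 * 5 ^ 3 ∣ Nat.card ↥(centralizer ({hw w1} : Set H0)) :=
    Nat.Coprime.mul_dvd_of_dvd_of_dvd (by norm_num) h24 h125
  have h4 := (Nat.le_of_dvd Nat.card_pos h3000).trans card_le_five
  norm_num at h4

end Cfsg.Agent.H513.HNH0
end

-- part: H513/HNTau
section
/-!
# Elements of order 7 and 11 of `HN` commuting with involutions (helper513)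
-/

set_option autoImplicit false
set_option maxRecDepth 100000

namespace Cfsg.Agent.H513.HNTau

open Subgroup

section Gen

variable {X : Type*} [Group X]

/-- elements of prime order `p`, `p ^ 2 ∤ |X|` -/
theorem exists_conj_pow [Finite X] {x y : X} {p : ℕ} (hp : p.Prime) (hx : orderOf x = p) (hy : orderOf y = p)
    (hsq : ¬ p * p ∣ Nat.card X) : ∃ (g : X) (m : ℕ), 1 ≤ m ∧ m < p ∧ g * x * g⁻¹ = y ^ m := by
  have : Fact p.Prime := ⟨hp⟩
  have key : ∀ z : X, orderOf z = p → ∃ P : Sylow p X, (P : Subgroup X) = zpowers z := by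
    intro z hz
    have h1 : IsPGroup p ↥(zpowers z) := IsPGroup.of_card (n := 1) (by rw [Nat.card_zpowers, hz, pow_one])
    obtain ⟨P, hP⟩ := h1.exists_le_sylow
    refine ⟨P, (eq_of_le_of_card_ge hP ?_).symm⟩
    obtain ⟨k, hk⟩ := IsPGroup.iff_card.1 P.isPGroup'
    rw [Nat.card_zpowers, hz]
    have h2 : k ≤ 1 := by
      by_contra hlt
      apply hsq
      rw [← pow_two]
      refine (pow_dvd_pow p (show 2 ≤ k by omega)).trans ?_
      rw [← hk]
      exact card_subgroup_dvd_card _
    rw [hk]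
    calc p ^ k ≤ p ^ 1 := Nat.pow_le_pow_right hp.pos h2
      _ = p := pow_one p
  obtain ⟨P, hP⟩ := key x hx
  obtain ⟨Q, hQ⟩ := key y hy
  obtain ⟨g, hg⟩ := MulAction.exists_smul_eq X P Q
  have h1 : g * x * g⁻¹ ∈ zpowers y := by
    rw [← hQ, ← hg, Sylow.coe_subgroup_smul]
    exact ⟨x, by rw [hP]; exact mem_zpowers x, rfl⟩
  obtain ⟨m, hm, h2⟩ := CpAutHNFive.HFacts.mem_zpowers_lt hp.pos (by rw [← hy, pow_orderOf_eq_one]) h1
  refine ⟨g, m, ?_, hm, h2⟩
  by_contra hlt
  have h0 : m = 0 := by omega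
  rw [h0, pow_zero, conj_eq_one_iff] at h2
  rw [h2, orderOf_one] at hx
  exact hp.one_lt.ne hx

theorem card_cent_eq [Finite X] {x y : X} {p : ℕ} (hp : p.Prime) (hx : orderOf x = p) (hy : orderOf y = p)
    (hsq : ¬ p * p ∣ Nat.card X) : Nat.card ↥(centralizer ({x} : Set X)) = Nat.card ↥(centralizer ({y} : Set X)) := by
  obtain ⟨g, m, h1, h5, h⟩ := exists_conj_pow hp hx hy hsq
  rw [← HNH0.card_cent_conj g x, h, HNH0.cent_pow_eq hp hy h1 h5]

end Gen

open Cfsg.Agent.HN.Pres Cfsg.Agent.HN.H0Basic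
open Cfsg.Agent.HN.P1408 hiding ψ
open Cfsg.Agent.HN.XWords (W0 W0_sq)
open Cfsg.Agent.HN.NormalH (ψ)
open Cfsg Cfsg.Agent
open Cfsg.Agent.KFacts.HN
open Cfsg.Agent.CpAutHNFive.TFive
open Cfsg.Agent.H513.HNH0 Cfsg.Agent.H513.NilpHN

/-! ### `H0` -/

theorem card_seven' {y : H0} (hy : orderOf y = 7) : Nat.card ↥(centralizer ({y} : Set H0)) = 28 := by
  have := finite_H0
  rw [← card_seven]
  exact card_cent_eq (by norm_num) hy order_w7 (by rw [Cfsg.Agent.HN.H0Basic.card_H0]; norm_num)

theorem comm_seven' {y : H0} (hy : orderOf y = 7) {a b : H0} (ha : a * y = y * a) (hb : b * y = y * b) :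
    a * b = b * a ∧ a ^ 14 = 1 := by
  have := finite_H0
  obtain ⟨g, m, h1, h5, h⟩ := exists_conj_pow (by norm_num) hy order_w7 (by rw [Cfsg.Agent.HN.H0Basic.card_H0]; norm_num)
  have key : ∀ a : H0, a * y = y * a → (g * a * g⁻¹) * hw w7 = hw w7 * (g * a * g⁻¹) := by
    intro a ha
    have h2 : g * a * g⁻¹ ∈ centralizer ({hw w7 ^ m} : Set H0) := by
      rw [← h, mem_centralizer_singleton_iff]
      calc g * a * g⁻¹ * (g * y * g⁻¹) = g * (a * y) * g⁻¹ := by group
        _ = g * y * g⁻¹ * (g * a * g⁻¹) := by rw [ha]; group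
    rw [cent_pow_eq (by norm_num) order_w7 h1 h5] at h2
    exact mem_centralizer_singleton_iff.1 h2
  constructor
  · have h2 := comm_seven (key a ha) (key b hb)
    have h3 : g * (a * b) * g⁻¹ = g * (b * a) * g⁻¹ := by
      calc g * (a * b) * g⁻¹ = g * a * g⁻¹ * (g * b * g⁻¹) := by group
        _ = g * (b * a) * g⁻¹ := by rw [h2]; group
    exact mul_left_cancel (mul_right_cancel h3)
  · have h2 := pow_seven (key a ha)
    rw [conj_pow, conj_eq_one_iff] at h2
    exact h2

theorem card_eleven' {y : H0} (hy : orderOf y = 11) : Nat.card ↥(centralizer ({y} : Set H0)) = 22 := by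
  have := finite_H0
  rw [← card_eleven]
  exact card_cent_eq (by norm_num) hy order_w11 (by rw [Cfsg.Agent.HN.H0Basic.card_H0]; norm_num)

/-! ### transport -/

theorem conj_of_tau {x t : G} (ht : IsConj (ψ τ) t) (htx : t * x = x * t) :
    ∃ (c : G) (y : H0), c * t * c⁻¹ = ψ τ ∧ c * x * c⁻¹ = ψ y := by
  obtain ⟨c, hc⟩ := isConj_iff.1 ht.symm
  have h1 : c * x * c⁻¹ * ψ τ = ψ τ * (c * x * c⁻¹) := by
    rw [← hc]
    calc c * x * c⁻¹ * (c * t * c⁻¹) = c * (x * t) * c⁻¹ := by group
      _ = c * (t * x) * c⁻¹ := by rw [htx]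
      _ = _ := by group
  obtain ⟨y, hy⟩ := emb.cent _ h1
  exact ⟨c, y, hc, hy.symm⟩

theorem order_of_conj {x c : G} {y : H0} (h : c * x * c⁻¹ = ψ y) : orderOf y = orderOf x := by
  rw [← orderOf_injective ψ emb.inj, ← h]
  exact MulEquiv.orderOf_eq (MulAut.conj c) x

theorem comm_of_conj {x v c : G} {y u : H0} (h : c * x * c⁻¹ = ψ y) (hv : c * v * c⁻¹ = ψ u) (hvx : v * x = x * v) :
    u * y = y * u := by
  apply emb.inj
  rw [map_mul, map_mul, ← h, ← hv]
  calc c * v * c⁻¹ * (c * x * c⁻¹) = c * (v * x) * c⁻¹ := by group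
    _ = c * x * c⁻¹ * (c * v * c⁻¹) := by rw [hvx]; group

theorem exists_of_comm {t v c : G} (hc : c * t * c⁻¹ = ψ τ) (hvt : v * t = t * v) : ∃ u : H0, c * v * c⁻¹ = ψ u := by
  have h1 : c * v * c⁻¹ * ψ τ = ψ τ * (c * v * c⁻¹) := by
    rw [← hc]
    calc c * v * c⁻¹ * (c * t * c⁻¹) = c * (v * t) * c⁻¹ := by group
      _ = c * (t * v) * c⁻¹ := by rw [hvt]
      _ = _ := by group
  obtain ⟨y, hy⟩ := emb.cent _ h1
  exact ⟨y, hy.symm⟩

theorem inf_eq (y : H0) : centralizer ({ψ y} : Set G) ⊓ centralizer ({ψ τ} : Set G) =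
    (centralizer ({y} : Set H0)).map ψ := by
  ext v
  constructor
  · rintro ⟨h1, h2⟩
    obtain ⟨u, rfl⟩ := emb.cent v (mem_centralizer_singleton_iff.1 h2)
    refine ⟨u, mem_centralizer_singleton_iff.2 (emb.inj ?_), rfl⟩
    rw [map_mul, map_mul]
    exact mem_centralizer_singleton_iff.1 h1
  · rintro ⟨u, hu, rfl⟩
    refine ⟨mem_centralizer_singleton_iff.2 ?_, mem_centralizer_singleton_iff.2 ?_⟩
    · rw [← map_mul, ← map_mul, mem_centralizer_singleton_iff.1 hu]
    · rw [← map_mul, ← map_mul, τ_comm]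

theorem card_inf {x t c : G} {y : H0} (hc : c * t * c⁻¹ = ψ τ) (h : c * x * c⁻¹ = ψ y) :
    Nat.card ↥(centralizer ({x} : Set G) ⊓ centralizer ({t} : Set G) : Subgroup G) =
      Nat.card ↥(centralizer ({y} : Set H0)) := by
  have h1 : (centralizer ({x} : Set G) ⊓ centralizer ({t} : Set G)).map (MulAut.conj c).toMonoidHom =
      (centralizer ({y} : Set H0)).map ψ := by
    rw [Subgroup.map_inf _ _ _ (MulAut.conj c).injective, CpAutHNFive.TauFive.map_centralizer,
      CpAutHNFive.TauFive.map_centralizer, hc, h, inf_eq]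
  have h2 := congrArg (fun K : Subgroup G => Nat.card ↥K) h1
  change Nat.card ↥((centralizer ({x} : Set G) ⊓ centralizer ({t} : Set G)).map (MulAut.conj c).toMonoidHom) =
    Nat.card ↥((centralizer ({y} : Set H0)).map ψ) at h2
  rw [card_map_of_injective (MulAut.conj c).injective, card_map_of_injective emb.inj] at h2
  exact h2

/-- involutions commuting with an element of prime order `r ∤ 3686400` -/
theorem conj_tau {x t : G} {r : ℕ} (hx : orderOf x = r) (hr : ¬ r ∣ 3686400) (ht : orderOf t = 2)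
    (htx : t * x = x * t) : IsConj (ψ τ) t := by
  rcases KFacts.HN.Classes.inv_class ht with h | h
  · exact h.symm
  · exfalso
    obtain ⟨g, hg⟩ := isConj_iff.1 h
    apply hr
    have h1 := CentTools.dvd_cent hx htx
    rw [← card_cent_conj g, hg] at h1
    exact h1.trans (dvd_of_eq card_PP)

end Cfsg.Agent.H513.HNTau
end
end

-- part: H513/HNSeven
section
set_option linter.all false
open scoped Cfsg.Agent.FastGrp

-- part: H513/FourCent
section
/-!
# Elements of odd prime order `p` commuting with involutions with `|C(y) ∩ C(t)| = 4 p` (helper513)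
-/

set_option autoImplicit false
set_option linter.unusedSectionVars false

namespace Cfsg.Agent.H513.FourCent

open Subgroup Cfsg.Agent.H513.NilpTools Cfsg.Agent.H513.CentTools Cfsg.Agent.H513.AbCr

universe u

variable {G : Type u} [Group G] [Finite G]

/-- the quotient by a central subgroup of odd order -/
theorem comm_of_quot {C : Type u} [Group C] {z : C} {p : ℕ} (hp : Odd p) (hz : z ∈ center C) (hoz : z ^ p = 1)
    [hZ : (zpowers z).Normal] {g v : C} (hv : v * v = 1)
    (h : QuotientGroup.mk' (zpowers z) g * QuotientGroup.mk' (zpowers z) v =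
      QuotientGroup.mk' (zpowers z) v * QuotientGroup.mk' (zpowers z) g) : g * v = v * g := by
  rw [← map_mul, ← map_mul] at h
  have h1 : (v * g)⁻¹ * (g * v) ∈ zpowers z := QuotientGroup.eq.1 h.symm
  set c := (v * g)⁻¹ * (g * v) with hc
  obtain ⟨k, hk⟩ := mem_zpowers_iff.1 h1
  have hcc : ∀ x : C, c * x = x * c := by
    intro x
    rw [← hk]
    exact ((show Commute z x from (mem_center_iff.1 hz x).symm).zpow_left k).eq
  have hcp : c ^ p = 1 := by
    rw [← hk, ← zpow_natCast, ← zpow_mul, mul_comm, zpow_mul, zpow_natCast, hoz, one_zpow]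
  have h2 : g * v = v * g * c := by rw [hc]; group
  have h3 : c * c = 1 := by
    have h4 : g = g * (c * c) := by
      calc g = g * (v * v) := by rw [hv, mul_one]
        _ = (g * v) * v := by group
        _ = v * g * c * v := by rw [h2]
        _ = v * (g * v) * c := by rw [mul_assoc, hcc v]; group
        _ = v * (v * g * c) * c := by rw [h2]
        _ = (v * v) * g * (c * c) := by group
        _ = g * (c * c) := by rw [hv, one_mul]
    exact (mul_eq_left.1 h4.symm)
  obtain ⟨j, hj⟩ := hp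
  rw [hj, pow_succ, pow_mul, pow_two, h3, one_pow, one_mul] at hcp
  rw [h2, hcp, mul_one]

/-- **the order of `C(y)`** -/
theorem card_cent {y : G} {p : ℕ} (hp : p.Prime) (hp2 : p ≠ 2) (hy : orderOf y = p)
    (h : ∀ t : G, orderOf t = 2 → t * y = y * t →
      Nat.card ↥(centralizer ({y} : Set G) ⊓ centralizer ({t} : Set G) : Subgroup G) = 4 * p ∧
      ∀ a b : G, a * y = y * a → a * t = t * a → b * y = y * b → b * t = t * b → a * b = b * a ∧ a ^ (2 * p) = 1)
    {t : G} (ht : orderOf t = 2) (hty : t * y = y * t) :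
    Nat.card ↥(centralizer ({y} : Set G)) = 4 * p ∨ Nat.card ↥(centralizer ({y} : Set G)) = 12 * p ∨
      Nat.card ↥(centralizer ({y} : Set G)) = 60 * p := by
  have hpo : Odd p := hp.odd_of_ne_two hp2
  set C := ↥(centralizer ({y} : Set G)) with hC
  let z : C := yH y
  have hzc : z ∈ center C := mem_center_iff.2 fun g => Subtype.ext (mem_centralizer_singleton_iff.1 g.2)
  have hoz : orderOf z = p := by
    rw [← Subgroup.orderOf_coe]
    exact hy
  have hzp : z ^ p = 1 := by rw [← hoz, pow_orderOf_eq_one]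
  have hZ : (zpowers z).Normal := by
    refine ⟨fun x hx g => ?_⟩
    rw [mem_center_iff.1 ((zpowers_le.2 hzc) hx) g, mul_inv_cancel_right]
    exact hx
  have hcardZ : Nat.card ↥(zpowers z) = p := by rw [Nat.card_zpowers, hoz]
  set π := QuotientGroup.mk' (zpowers z) with hπ
  -- the centralizers of the involutions
  have hD : ∀ v : C, orderOf v = 2 → Nat.card ↥(centralizer ({v} : Set C)) = 4 * p ∧
      ∀ a b : C, a * v = v * a → b * v = v * b → a * b = b * a ∧ a ^ (2 * p) = 1 := by
    intro v hv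
    have hv' : orderOf (v : G) = 2 := by rw [Subgroup.orderOf_coe]; exact hv
    have hvy : (v : G) * y = y * v := mem_centralizer_singleton_iff.1 v.2
    obtain ⟨h1, h2⟩ := h (v : G) hv' hvy
    constructor
    · rw [← h1]
      exact card_cent_tH hvy
    · intro a b ha hb
      obtain ⟨h3, h4⟩ := h2 (a : G) (b : G) (mem_centralizer_singleton_iff.1 a.2) (congrArg Subtype.val ha)
        (mem_centralizer_singleton_iff.1 b.2) (congrArg Subtype.val hb)
      exact ⟨Subtype.ext h3, Subtype.ext h4⟩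
  let t0 : C := tH hty
  have ht0 : orderOf t0 = 2 := by rw [← Subgroup.orderOf_coe]; exact ht
  obtain ⟨hcard, hcomm⟩ := hD t0 ht0
  set D := centralizer ({t0} : Set C) with hDdef
  have hZD : zpowers z ≤ D := zpowers_le.2 (mem_centralizer_singleton_iff.2 (mem_center_iff.1 hzc t0).symm)
  set U := D.map π with hU
  have hcardU : Nat.card ↥U = 4 := by
    have h1 : U.comap π = D := by
      rw [hU, comap_map_eq, QuotientGroup.ker_mk', sup_eq_left]
      exact hZD
    have h2 := card_comap_mk (zpowers z) U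
    have h3 : Nat.card ↥(U.comap π) = Nat.card ↥D := congrArg (fun K : Subgroup C => Nat.card ↥K) h1
    rw [← hπ, h3, hcard, hcardZ, mul_comm] at h2
    exact (Nat.eq_of_mul_eq_mul_left hp.pos h2).symm
  have hsq : ∀ u ∈ U, u * u = 1 := by
    rintro _ ⟨d, hd, rfl⟩
    have hd' : d * t0 = t0 * d := mem_centralizer_singleton_iff.1 hd
    have h1 : (π d * π d) ^ p = 1 := by
      rw [← pow_two, ← pow_mul, ← map_pow, (hcomm d d hd' hd').2, map_one]
    have h2 : (π d) ^ 4 = 1 := by
      have h3 := pow_card_eq_one' (x := (⟨π d, mem_map_of_mem π hd⟩ : ↥U))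
      rw [hcardU] at h3
      exact congrArg Subtype.val h3
    have h3 : (π d * π d) ^ 2 = 1 := by rw [← pow_two, ← pow_mul]; exact h2
    have h4 := pow_gcd_eq_one.2 ⟨h1, h3⟩
    rwa [(Nat.coprime_two_right).2 hpo, pow_one] at h4
  have hyp : J2Type.FourSelfCent.Hyp U := by
    refine ⟨hcardU, hsq, ?_⟩
    rintro _ ⟨d, hd, rfl⟩ hu1 x hx
    have hd' : d * t0 = t0 * d := mem_centralizer_singleton_iff.1 hd
    set v := d ^ p with hv
    have hvv : v * v = 1 := by
      rw [hv, ← pow_add, ← two_mul]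
      exact (hcomm d d hd' hd').2
    have hπv : π v = π d := by
      obtain ⟨j, hj⟩ := hpo
      rw [hv, map_pow, hj, pow_succ, pow_mul, pow_two, hsq _ ⟨d, hd, rfl⟩, one_pow, one_mul]
    have hv1 : v ≠ 1 := by
      intro h1
      rw [h1, map_one] at hπv
      exact hu1 hπv.symm
    have hv2 : orderOf v = 2 := orderOf_eq_prime (by rw [pow_two]; exact hvv) hv1
    obtain ⟨g, rfl⟩ := QuotientGroup.mk'_surjective (zpowers z) x
    have h1 : g * v = v * g := by
      refine comm_of_quot hpo hzc hzp hvv ?_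
      change π g * π v = π v * π g
      rw [hπv]
      exact hx
    have h2 : t0 * v = v * t0 := ((show Commute t0 d from hd'.symm).pow_right p).eq
    have h3 := ((hD v hv2).2 g t0 h1 h2).1
    exact ⟨g, mem_centralizer_singleton_iff.2 h3, rfl⟩
  have hcK : Nat.card C = Nat.card (C ⧸ zpowers z) * p := by
    rw [card_eq_card_quotient_mul_card_subgroup (zpowers z), hcardZ]
  rcases hyp.card_cases with h1 | h1 | h1
  · left
    rw [hcK, h1]
  · right; left
    rw [hcK, h1]
  · right; right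
    rw [hcK, h1]

end Cfsg.Agent.H513.FourCent
end

-- part: H513/HNSeven
section
/-!
# Elements of order 7 and 11 of `HN` (helper513)
-/

set_option autoImplicit false
set_option maxRecDepth 100000

namespace Cfsg.Agent.H513.HNSeven

open Subgroup
open Cfsg.Agent.HN.Pres Cfsg.Agent.HN.H0Basic
open Cfsg.Agent.HN.P1408 hiding ψ card_H0
open Cfsg.Agent.HN.XWords (W0 W0_sq)
open Cfsg.Agent.HN.NormalH (ψ)
open Cfsg Cfsg.Agent
open Cfsg.Agent.KFacts.HN
open Cfsg.Agent.CpAutHNFive.TFive
open Cfsg.Agent.H513.HNH0 Cfsg.Agent.H513.NilpHN Cfsg.Agent.H513.HNTau Cfsg.Agent.H513.CentTools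
open Cfsg.Agent.H513.NilpTools

theorem simple : IsSimpleGroup G := Cfsg.Agent.S1701.result.1

theorem order_ψ {y : H0} {n : ℕ} (h : orderOf y = n) : orderOf (ψ y) = n := by
  rw [orderOf_injective _ emb.inj, h]

theorem ψτ_comm (y : H0) : ψ τ * ψ y = ψ y * ψ τ := by rw [← map_mul, ← map_mul, τ_comm]

theorem order_ψτ : orderOf (ψ τ) = 2 := order_ψ CpAutHNFive.HFacts.order_τ

/-- **the centralizer of an element of order 7** -/
theorem cent_seven {y : G} (hy : orderOf y = 7) : Nat.card ↥(centralizer ({y} : Set G)) ∣ 420 := by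
  have hc : Nat.card ↥(centralizer ({y} : Set G)) = Nat.card ↥(centralizer ({ψ (hw w7)} : Set G)) :=
    card_cent_eq (by norm_num) hy (order_ψ order_w7) (by rw [card_G]; norm_num)
  rw [hc]
  have h := FourCent.card_cent (y := ψ (hw w7)) (p := 7) (by norm_num) (by norm_num) (order_ψ order_w7) ?_
    order_ψτ (ψτ_comm _)
  · rcases h with h | h | h
    · rw [h]; norm_num
    · rw [h]; norm_num
    · rw [h]
  · intro t ht hty
    obtain ⟨c, y', hc', hy'⟩ := conj_of_tau (conj_tau (order_ψ order_w7) (by norm_num) ht hty) hty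
    have ho : orderOf y' = 7 := by rw [order_of_conj hy', order_ψ order_w7]
    constructor
    · rw [card_inf hc' hy', card_seven' ho]
    · intro a b ha hat hb hbt
      obtain ⟨a', ha'⟩ := exists_of_comm hc' hat
      obtain ⟨b', hb'⟩ := exists_of_comm hc' hbt
      obtain ⟨h1, h2⟩ := comm_seven' ho (comm_of_conj hy' ha' ha) (comm_of_conj hy' hb' hb)
      constructor
      · have h3 : c * (a * b) * c⁻¹ = c * (b * a) * c⁻¹ := by
          calc c * (a * b) * c⁻¹ = c * a * c⁻¹ * (c * b * c⁻¹) := by group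
            _ = ψ (a' * b') := by rw [ha', hb', map_mul]
            _ = c * b * c⁻¹ * (c * a * c⁻¹) := by rw [h1, map_mul, ha', hb']
            _ = _ := by group
        exact mul_left_cancel (mul_right_cancel h3)
      · have h3 : c * a ^ (2 * 7) * c⁻¹ = 1 := by
          rw [← conj_pow, ha', ← map_pow, show 2 * 7 = 14 from rfl, h2, map_one]
        exact conj_eq_one_iff.1 h3

/-- `|C(y) ∩ C(t)| = 22`, `y` of order 11 -/
theorem inf_eleven {y t : G} (hy : orderOf y = 11) (ht : orderOf t = 2) (hty : t * y = y * t) :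
    Nat.card ↥(centralizer ({y} : Set G) ⊓ centralizer ({t} : Set G) : Subgroup G) = 22 := by
  obtain ⟨c, y', hc', hy'⟩ := conj_of_tau (conj_tau hy (by norm_num) ht hty) hty
  rw [card_inf hc' hy', card_eleven' (by rw [order_of_conj hy', hy])]

end Cfsg.Agent.H513.HNSeven
end
end

-- part: H513/HNZ
section
set_option linter.all false
open scoped Cfsg.Agent.FastGrp

/-!
# An element of type II of `HN` with centralizer of order prime to 3 (helper513)
-/

set_option autoImplicit false
set_option maxRecDepth 100000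
set_option linter.unusedSectionVars false

namespace Cfsg.Agent.H513.HNZ

section Abs

open Subgroup Cfsg.Agent.H513.NilpTools

universe u

variable {H : Type u} [Group H] [Finite H] {s z : H} {T : Subgroup H}

/-- **a prime dividing `|C(z)|` but not `|C(z) ∩ C(s)|`** -/
theorem exists_comm_of_dvd (h : Ex s z T) {N : Subgroup H} (hcr : Cr s z 5 N) {q : ℕ} (hq : q.Prime) (hq2 : q ≠ 2)
    (hq5 : q ≠ 5) (hC : ¬ q ∣ Nat.card ↥(centralizer ({s} : Set H))) (hd : q ∣ Nat.card H) {d : H} (hdT : d ∈ T)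
    (hd2 : orderOf d = 2) (hds : d ≠ s) : ∃ w : H, orderOf w = q ∧ w * d = d * w := by
  have : Fact q.Prime := ⟨hq⟩
  have hZ := hcr.normalZ
  obtain ⟨y, hy⟩ := exists_prime_orderOf_dvd_card' q hd
  have hyq : y ^ q = 1 := by rw [← hy, pow_orderOf_eq_one]
  have hyN : y ∈ N := hcr.mem_N hyq ((Nat.Prime.coprime_iff_not_dvd hq).2 hC)
  have hqo : Odd q := hq.odd_of_ne_two hq2
  have hcop : Nat.gcd 5 q = 1 := ((Nat.coprime_primes Nat.prime_five hq).2 (Ne.symm hq5))
  obtain ⟨hinv, hcomm⟩ := hcr.quot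
  set π := QuotientGroup.mk' (zpowers z) with hπ
  have hn := hcr.normal
  have hNb : (N.map π).Normal := hn.map _ (QuotientGroup.mk'_surjective _)
  set W := ThFive.tors (N.map π) hcomm q with hW
  have hWn : W.Normal := ThFive.tors_normal hNb
  have hWN : ∀ w ∈ W, w ∈ N.map π := fun w hw => hw.1
  have hWq : ∀ w ∈ W, w ^ q = 1 := fun w hw => hw.2
  have hyW : π y ∈ W := ⟨⟨y, hyN, rfl⟩, by rw [← map_pow, hyq, map_one]⟩
  have hz5 : z ^ 5 = 1 := by rw [← h.oz, pow_orderOf_eq_one]
  have hdd : d * d = 1 := by rw [← pow_two, ← hd2, pow_orderOf_eq_one]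
  have hdi : (π d)⁻¹ = π d := by rw [← map_inv, inv_eq_of_mul_eq_one_right hdd]
  have hss : s * s = 1 := h.ss
  by_contra hcon
  push Not at hcon
  -- elements of `W` commuting with `d`
  have key : ∀ a ∈ W, a * π d = π d * a → a = 1 := by
    intro a ha had
    by_contra ha1
    obtain ⟨n, hnN, rfl⟩ := hWN a ha
    have h1 : n ^ q ∈ zpowers z := by
      have h2 := hWq _ ha
      rw [← map_pow] at h2
      exact (QuotientGroup.eq_one_iff _).1 h2
    have h2 : (n ^ 5) ^ q = 1 := by
      rw [← pow_mul, mul_comm, pow_mul]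
      exact hcr.c_pow h1
    have h3 : n ^ 5 ≠ 1 := by
      intro h4
      apply ha1
      have h5 : (π n) ^ 5 = 1 := by rw [← map_pow, h4, map_one]
      have h6 := pow_gcd_eq_one.2 ⟨h5, hWq _ ha⟩
      rwa [hcop, pow_one] at h6
    refine hcon (n ^ 5) (orderOf_eq_prime h2 h3) ?_
    refine FourCent.comm_of_quot (by decide : Odd 5) h.cen hz5 hdd ?_
    change π (n ^ 5) * π d = π d * π (n ^ 5)
    rw [map_pow]
    exact ((show Commute (π n) (π d) from had).pow_left 5).eq
  obtain ⟨e, he, hed⟩ : ∃ e ∈ T, e * d ≠ d * e := by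
    by_contra hcon
    push Not at hcon
    rcases h.cent d hdT (fun t ht => (hcon t ht).symm) with h1 | h1
    · rw [h1, orderOf_one] at hd2
      norm_num at hd2
    · exact hds h1
  have hed' := (h.comm e he d hdT).resolve_left hed
  have hes := h.ts e he
  have hconj : e * d * e⁻¹ = d * s := by
    rw [hed', mul_assoc d e s, hes]
    group
  have key2 : ∀ a ∈ W, π (d * s) * a = a * π (d * s) → a = 1 := by
    intro a ha had
    have h1 : (π e)⁻¹ * a * π e ∈ W := by
      have h2 := hWn.conj_mem a ha (π e)⁻¹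
      rwa [inv_inv] at h2
    have h2 := key _ h1 (by
      rw [← hconj, map_mul, map_mul, map_inv] at had
      calc (π e)⁻¹ * a * π e * π d = (π e)⁻¹ * (a * (π e * π d * (π e)⁻¹)) * π e := by group
        _ = (π e)⁻¹ * (π e * π d * (π e)⁻¹ * a) * π e := by rw [had]
        _ = _ := by group)
    have h3 : a = π e * ((π e)⁻¹ * a * π e) * (π e)⁻¹ := by group
    rw [h3, h2, mul_one, mul_inv_cancel]
  -- `d` inverts `W`
  have key3 : ∀ a ∈ W, π d * a * (π d)⁻¹ = a⁻¹ := by
    intro a ha
    have h0 : π d * a * (π d)⁻¹ ∈ W := hWn.conj_mem a ha _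
    have h1 : a * (π d * a * (π d)⁻¹) = (π d * a * (π d)⁻¹) * a := hcomm _ (hWN _ ha) _ (hWN _ h0)
    have hdd' : π d * π d = 1 := by rw [← map_mul, hdd, map_one]
    have h2 := key (a * (π d * a * (π d)⁻¹)) (mul_mem ha h0) (by
      rw [hdi] at h1 ⊢
      calc a * (π d * a * π d) * π d = a * π d * a * (π d * π d) := by group
        _ = (π d * π d) * (a * π d * a) := by rw [hdd', mul_one, one_mul]
        _ = π d * ((π d * a * π d) * a) := by group
        _ = π d * (a * (π d * a * π d)) := by rw [h1])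
    exact (inv_eq_of_mul_eq_one_right h2).symm
  have h1 := (inv_iff (W := W) (s := π s) (d := π d) (fun w hw => hinv w (hWN w hw)) hyW).1 (key3 _ hyW)
  rw [← map_mul] at h1
  have h2 := key2 _ hyW h1
  have h3 : y ∈ zpowers z := (QuotientGroup.eq_one_iff y).1 h2
  have h4 := orderOf_dvd_of_pow_eq_one (hcr.c_pow h3)
  rw [hy] at h4
  exact hq5 ((Nat.prime_dvd_prime_iff_eq hq Nat.prime_five).1 h4)

end Abs

open Cfsg.Agent.HN.Pres Cfsg.Agent.HN.H0Basic
open Cfsg.Agent.HN.P1408 hiding ψ
open Cfsg.Agent.HN.XWords (W0 W0_sq)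
open Cfsg.Agent.HN.NormalH (ψ)
open Cfsg Cfsg.Agent
open Cfsg.Agent.KFacts.HN
open Cfsg.Agent.CpAutTh.RankOne (UInv)
open Cfsg.Agent.CpAutHNFive Cfsg.Agent.CpAutHNFive.LFive Cfsg.Agent.CpAutHNFive.PFive
open Cfsg.Agent.CpAutHNFive.TFive Cfsg.Agent.CpAutHNFive.HTab Cfsg.Agent.CpAutHNFive.HFacts
open Cfsg.Agent.CpAutHNFive.TauFive Cfsg.Agent.BpSpor.HNFiveA
open Cfsg.Agent.H513.NilpHN Cfsg.Agent.H513.NilpTools
open Subgroup

/-- **an element of type II** -/
theorem exists_data' : ∃ y : PP, orderOf y = 5 ∧ ρ y = φA LFive.c5 * φB (LFive.c5 ^ 3) ∧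
    (∃ (g : PP) (m : ℕ), 1 ≤ m ∧ m < 5 ∧ (g : G) * ψ (hw w1) ^ m * (g : G)⁻¹ = (y : G)) ∧
    ∃ c d : G, c ^ 5 = 1 ∧ d ^ 5 = 1 ∧
    c * y = y * c ∧ d * y = y * d ∧ c * d ≠ d * c ∧ W0 * c * W0⁻¹ = c⁻¹ ∧ W0 * d * W0⁻¹ = d⁻¹ := by
  let x : PP := ⟨ψ (hw w1), w1_PP⟩
  have hox : orderOf (ψ (hw w1)) = 5 := by rw [orderOf_injective _ emb.inj, order_w1]
  have hx : orderOf x = 5 := by rw [← Subgroup.orderOf_coe]; exact hox
  obtain ⟨g, m, hm1, hm5, h⟩ := conj_std hx
  let y : PP := g * x ^ m * g⁻¹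
  have hy5 : orderOf y = 5 := by
    have h1 : orderOf (x ^ m) = 5 := by
      rw [orderOf_pow, hx]
      interval_cases m <;> rfl
    rw [← h1]
    exact MulEquiv.orderOf_eq (MulAut.conj g) _
  have hy : (g : G) * ψ (hw w1) ^ m * (g : G)⁻¹ = (y : G) := rfl
  obtain ⟨e⟩ := cequiv_pow hox hm1 hm5 hy
  have hii : ρ y = φA LFive.c5 * φB (LFive.c5 ^ 3) := by
    rcases h with h | h | h
    · exfalso
      have h1 := (CpAutTh.RankOne.uInv_of_unique (order_sx y) (unique_one h)).1
      apply not_uInv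
      intro a b ha hb hab
      apply e.injective
      apply h1
      · rw [MulEquiv.orderOf_eq, ha]
      · rw [MulEquiv.orderOf_eq, hb]
      · rw [← map_mul, hab, map_mul]
    · exfalso
      have h2 := card_three (x := y) h
      rw [card_pair] at h2
      have h3 : (centralizer ({ψ (hw w1)} : Set G) ⊓ centralizer ({W0} : Set G)).map (MulAut.conj (g : G)).toMonoidHom =
          centralizer ({(y : G)} : Set G) ⊓ centralizer ({W0} : Set G) := by
        have hgW : (g : G) * W0 * (g : G)⁻¹ = W0 := by rw [mem_PP.1 g.2, mul_inv_cancel_right]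
        rw [Subgroup.map_inf _ _ _ (MulAut.conj (g : G)).injective, ← centralizer_pow hox hm1 hm5, map_centralizer,
          map_centralizer, hgW, hy]
      rw [← h3] at h2
      rw [← Nat.card_congr ((centralizer ({ψ (hw w1)} : Set G) ⊓ centralizer ({W0} : Set G)).equivMapOfInjective
        (MulAut.conj (g : G)).toMonoidHom (MulAut.conj (g : G)).injective).toEquiv] at h2
      have h10 := eight_dvd.trans h2
      norm_num at h10
    · exact h
  have hgW : (g : G) * W0 = W0 * (g : G) := mem_PP.1 g.2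
  -- conjugation
  have key5 : ∀ w : List ℕ, hw w ^ 5 = 1 → ((g : G) * ψ (hw w) * (g : G)⁻¹) ^ 5 = 1 := by
    intro w hw5
    rw [conj_pow, ← map_pow, hw5, map_one, mul_one, mul_inv_cancel]
  have keyc : ∀ w : List ℕ, hw w * hw w1 = hw w1 * hw w →
      ((g : G) * ψ (hw w) * (g : G)⁻¹) * (y : G) = (y : G) * ((g : G) * ψ (hw w) * (g : G)⁻¹) := by
    intro w hwc
    have h1 : ψ (hw w) * ψ (hw w1) ^ m = ψ (hw w1) ^ m * ψ (hw w) := by
      have h2 : ψ (hw w) * ψ (hw w1) = ψ (hw w1) * ψ (hw w) := by rw [← map_mul, hwc, map_mul]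
      exact ((show Commute _ _ from h2).pow_right m).eq
    rw [← hy]
    calc (g : G) * ψ (hw w) * (g : G)⁻¹ * ((g : G) * ψ (hw w1) ^ m * (g : G)⁻¹) =
        (g : G) * (ψ (hw w) * ψ (hw w1) ^ m) * (g : G)⁻¹ := by group
      _ = (g : G) * (ψ (hw w1) ^ m * ψ (hw w)) * (g : G)⁻¹ := by rw [h1]
      _ = _ := by group
  have keyi : ∀ w : List ℕ, hw ws * hw w * hw ws * hw w = 1 →
      W0 * ((g : G) * ψ (hw w) * (g : G)⁻¹) * W0⁻¹ = ((g : G) * ψ (hw w) * (g : G)⁻¹)⁻¹ := by
    intro w hwi
    have hWi : W0⁻¹ = W0 := inv_eq_of_mul_eq_one_right W0_sq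
    have hgWi : (g : G)⁻¹ * W0 = W0 * (g : G)⁻¹ := by
      rw [inv_mul_eq_iff_eq_mul, ← mul_assoc, hgW, mul_inv_cancel_right]
    have h1 : W0 * ψ (hw w) * W0 = (ψ (hw w))⁻¹ := by
      rw [← ψ_ws, ← map_mul, ← map_mul, ← map_inv]
      congr 1
      exact mul_eq_one_iff_eq_inv.1 hwi
    rw [hWi]
    calc W0 * ((g : G) * ψ (hw w) * (g : G)⁻¹) * W0 = (W0 * (g : G)) * ψ (hw w) * ((g : G)⁻¹ * W0) := by group
      _ = (g : G) * (W0 * ψ (hw w) * W0) * (g : G)⁻¹ := by rw [← hgW, hgWi]; group
      _ = _ := by rw [h1]; group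
  refine ⟨y, hy5, hii, ⟨g, m, hm1, hm5, hy⟩, (g : G) * ψ (hw wcc) * (g : G)⁻¹, (g : G) * ψ (hw wdd) * (g : G)⁻¹, key5 _ cc_five, key5 _ dd_five,
    keyc _ cc_comm, keyc _ dd_comm, ?_, keyi _ cc_inv, keyi _ dd_inv⟩
  intro h1
  apply not_comm
  apply emb.inj
  rw [map_mul, map_mul]
  have h2 : (g : G) * (ψ (hw wcc) * ψ (hw wdd)) * (g : G)⁻¹ = (g : G) * (ψ (hw wdd) * ψ (hw wcc)) * (g : G)⁻¹ := by
    calc (g : G) * (ψ (hw wcc) * ψ (hw wdd)) * (g : G)⁻¹ =
        (g : G) * ψ (hw wcc) * (g : G)⁻¹ * ((g : G) * ψ (hw wdd) * (g : G)⁻¹) := by group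
      _ = (g : G) * ψ (hw wdd) * (g : G)⁻¹ * ((g : G) * ψ (hw wcc) * (g : G)⁻¹) := h1
      _ = _ := by group
  exact mul_left_cancel (mul_right_cancel h2)


/-- `3 ∤ |C(y) ∩ C(W0)|`, `y` of type II -/
theorem not_three_CH {y : PP} (hρ : ρ y = φA LFive.c5 * φB (LFive.c5 ^ 3)) :
    ¬ 3 ∣ Nat.card ↥(centralizer ({sx y} : Set ↥(centralizer ({(y : G)} : Set G)))) := by
  intro hd
  have : Fact (Nat.Prime 3) := ⟨Nat.prime_three⟩
  obtain ⟨u, hu⟩ := exists_prime_orderOf_dvd_card' 3 hd
  have hu3 : u ^ 3 = 1 := by rw [← hu, pow_orderOf_eq_one]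
  have h1 := fC_comm y u
  rw [hρ] at h1
  have h2 := pow_of_comm (mem_LL_of_comm h1) (Or.inr rfl) h1
  have h3 : (fC y u) ^ 3 = 1 := by rw [← map_pow, hu3, map_one]
  have h4 := pow_gcd_eq_one.2 ⟨h2, h3⟩
  rw [show Nat.gcd 5 3 = 1 by norm_num, pow_one] at h4
  obtain ⟨k, hk⟩ := ker_two y ⟨u, h4⟩
  have hk' : u ^ 2 ^ k = 1 := congrArg Subtype.val hk
  have h5 := pow_gcd_eq_one.2 ⟨hk', hu3⟩
  have h6 : Nat.gcd (2 ^ k) 3 = 1 := Nat.Coprime.pow_left k (by norm_num)
  rw [h6, pow_one] at h5
  rw [h5, orderOf_one] at hu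
  norm_num at hu

/-- **the element `z`** -/
theorem exists_z' : ∃ z : G, orderOf z = 5 ∧ (∀ r : ℕ, r.Prime → ¬ r ∣ 3686400 → ¬ r * r ∣ 273030912000000 →
    ¬ r ∣ Nat.card ↥(centralizer ({z} : Set G))) ∧ (¬ 3 ∣ Nat.card ↥(centralizer ({z} : Set G))) ∧
    (∀ B : Subgroup G, IsPGroup 5 ↥B → 5 ^ 4 ∣ Nat.card ↥B → ∃ g : G, g * z * g⁻¹ ∈ B) ∧
    (∃ (g : G) (m : ℕ), 1 ≤ m ∧ m < 5 ∧ g * ψ (hw w1) ^ m * g⁻¹ = z) ∧ z * W0 = W0 * z := by
  obtain ⟨y, hy, hρ, ⟨g, n, hn1, hn5, hg⟩, c, d, hc5, hd5, hcy, hdy, hcd, hci, hdi⟩ := exists_data'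
  have hex := ex_two hy hρ
  obtain ⟨N, hcr⟩ := hex.exists_cr
  have hZ := hcr.normalZ
  have h7 : ¬ 5 ^ 7 ∣ Nat.card G := by rw [card_G]; norm_num
  refine ⟨(y : G), by rw [Subgroup.orderOf_coe]; exact hy, ?_, ?_, ?_, ⟨g, n, hn1, hn5, hg⟩, mem_PP.1 y.2⟩
  · intro r hr hrC hr2
    refine hcr.not_dvd hr ?_ ?_ hex.s_mem_commutator
    · intro hd
      apply hr2
      rw [← card_G]
      exact hd.trans (card_subgroup_dvd_card _)
    · intro hd
      apply hrC
      rw [← card_PP]
      exact hd.trans (card_dvd_of_injective (toPP y) (toPP_inj y))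
  · intro h3
    -- the involution `g (ψ τ) g⁻¹`
    set d0 : G := (g : G) * ψ τ * (g : G)⁻¹ with hd0
    have hd0y : d0 * y = y * d0 := by
      have h1 : ψ τ * ψ (hw w1) ^ n = ψ (hw w1) ^ n * ψ τ := by
        rw [← map_pow, ← map_mul, ← map_mul, τ_comm]
      rw [← hg, hd0]
      calc (g : G) * ψ τ * (g : G)⁻¹ * ((g : G) * ψ (hw w1) ^ n * (g : G)⁻¹) =
          (g : G) * (ψ τ * ψ (hw w1) ^ n) * (g : G)⁻¹ := by group
        _ = (g : G) * (ψ (hw w1) ^ n * ψ τ) * (g : G)⁻¹ := by rw [h1]
        _ = _ := by group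
    have hgW : (g : G) * W0 = W0 * (g : G) := mem_PP.1 g.2
    have hgW' : (g : G)⁻¹ * W0 = W0 * (g : G)⁻¹ := by
      rw [inv_mul_eq_iff_eq_mul, ← mul_assoc, hgW, mul_inv_cancel_right]
    have hτW : ψ τ * W0 = W0 * ψ τ := by
      rw [hW, ← map_mul, ← map_mul, ← τ_comm (Cfsg.Agent.HN.Syl.a * τ)]
    have hd0W : d0 * W0 = W0 * d0 := by
      calc d0 * W0 = (g : G) * ψ τ * ((g : G)⁻¹ * W0) := by rw [hd0]; group
        _ = (g : G) * (ψ τ * W0) * (g : G)⁻¹ := by rw [hgW']; group
        _ = ((g : G) * W0) * ψ τ * (g : G)⁻¹ := by rw [hτW]; group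
        _ = W0 * d0 := by rw [hgW, hd0]; group
    have hd0o : orderOf d0 = 2 := by
      rw [← HNSeven.order_ψτ]
      exact MulEquiv.orderOf_eq (MulAut.conj (g : G)) (ψ τ)
    have hd0ne : d0 ≠ W0 := by
      intro h1
      have h2 : ψ τ = W0 := by
        calc ψ τ = (g : G)⁻¹ * d0 * (g : G) := by rw [hd0]; group
          _ = (g : G)⁻¹ * W0 * (g : G) := by rw [h1]
          _ = W0 := by rw [hgW']; group
      rw [hW] at h2
      have h3 := emb.inj h2
      have h4 : Cfsg.Agent.HN.Syl.a = 1 := (mul_eq_right.1 h3.symm)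
      exact Cfsg.Agent.HN.Classes.a_ne_one h4
    let d' : ↥(centralizer ({(y : G)} : Set G)) := ⟨d0, mem_centralizer_singleton_iff.2 hd0y⟩
    have hd'T := hex.all d' 1 (by
      apply Subtype.ext
      change d0 ^ 2 ^ 1 = 1
      rw [pow_one, ← hd0o, pow_orderOf_eq_one]) (Subtype.ext hd0W)
    obtain ⟨w, hw3, hwd⟩ := exists_comm_of_dvd hex hcr Nat.prime_three (by norm_num) (by norm_num) (not_three_CH hρ) h3
      hd'T (by rw [← Subgroup.orderOf_coe]; exact hd0o) (fun h => hd0ne (congrArg Subtype.val h))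
    have hw3' : orderOf (w : G) = 3 := by rw [Subgroup.orderOf_coe]; exact hw3
    have hwy : (w : G) * y = y * w := mem_centralizer_singleton_iff.1 w.2
    have hwd' : (w : G) * d0 = d0 * w := congrArg Subtype.val hwd
    -- conjugate back
    have h4 : (g : G)⁻¹ * w * g * ψ τ = ψ τ * ((g : G)⁻¹ * w * g) := by
      calc (g : G)⁻¹ * w * g * ψ τ = (g : G)⁻¹ * (w * d0) * g := by rw [hd0]; group
        _ = (g : G)⁻¹ * (d0 * w) * g := by rw [hwd']
        _ = _ := by rw [hd0]; group
    obtain ⟨v, hv⟩ := emb.cent _ h4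
    have hvo : orderOf v = 3 := by
      rw [← orderOf_injective ψ emb.inj, hv, ← hw3']
      have h5 := MulEquiv.orderOf_eq (MulAut.conj ((g : G)⁻¹)) (w : G)
      have h6 : (MulAut.conj ((g : G)⁻¹)) (w : G) = (g : G)⁻¹ * w * g := by
        rw [MulAut.conj_apply, inv_inv]
      rw [← h6]
      exact h5
    have hvc : v * hw w1 ^ n = hw w1 ^ n * v := by
      apply emb.inj
      rw [map_mul, map_mul, hv, map_pow]
      calc (g : G)⁻¹ * w * g * ψ (hw w1) ^ n = (g : G)⁻¹ * (w * ((g : G) * ψ (hw w1) ^ n * (g : G)⁻¹)) * g := by group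
        _ = (g : G)⁻¹ * ((g : G) * ψ (hw w1) ^ n * (g : G)⁻¹ * w) * g := by rw [hg, hwy]
        _ = _ := by group
    have h5 : v ∈ centralizer ({hw w1 ^ n} : Set H0) := mem_centralizer_singleton_iff.2 hvc
    rw [HNH0.cent_pow_eq Nat.prime_five order_w1 hn1 hn5] at h5
    exact HNH0.not_three (CentTools.dvd_cent hvo (mem_centralizer_singleton_iff.1 h5).symm)
  · have hcN := hcr.mem_of_inv (v := (⟨c, mem_centralizer_singleton_iff.2 hcy⟩ : ↥(centralizer ({(y : G)} : Set G))))
      (m := 5) (Subtype.ext hci) (by decide) (Subtype.ext hc5)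
    have hdN := hcr.mem_of_inv (v := (⟨d, mem_centralizer_singleton_iff.2 hdy⟩ : ↥(centralizer ({(y : G)} : Set G))))
      (m := 5) (Subtype.ext hdi) (by decide) (Subtype.ext hd5)
    obtain ⟨h6, hbig⟩ := hcr.mem_of_big (fun hd => h7 (hd.trans (card_subgroup_dvd_card _))) (dvd_card hy hρ)
      (hex.irr hcr) hcN (Subtype.ext hc5) hdN (Subtype.ext hd5) (fun h => hcd (congrArg Subtype.val h))
    intro B hB hBd
    refine exists_conj_mem_of_big Nat.prime_five h6 h7 ?_ hB hBd
    intro B hBH hBp hB4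
    have h1 := hbig (B.subgroupOf (centralizer ({(y : G)} : Set G)))
      (hBp.comap_of_injective (centralizer ({(y : G)} : Set G)).subtype (centralizer ({(y : G)} : Set G)).subtype_injective)
      (by rw [Nat.card_congr (Subgroup.subgroupOfEquivOfLe hBH).toEquiv]; exact hB4)
    exact mem_subgroupOf.1 h1

end Cfsg.Agent.H513.HNZ
end
end
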