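/-
helper513 (task 456, for helper903 / S5762): the symplectic row of the Sylow intersection theorem, translation
from semisimilitudes of the symplectic space to `Aut (PSp m F)`.
-/
import Mathlib
import Cfsg.Agent.H903.SylMeet
import Cfsg.Agent.H903.SylSemi
import Cfsg.Agent.ClassicalGeometry.SympAutTwo
import Cfsg.Agent.ClassicalGeometry.SympAutExists
import Cfsg.Agent.ClassicalGeometry.SympAutOddA
set_option linter.all false

set_option autoImplicit false

namespace Cfsg.Agent.H513.MeetPSp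

open Cfsg.Agent.H903.SylMeet Cfsg.Agent.H903.SylSemi
open Cfsg.Agent.ClassicalGeometry.SympAutSemi Cfsg.Agent.ClassicalGeometry.SympGamma
open Cfsg.Agent.ClassicalGeometry

/-- An element of odd order lies in every subgroup of index two. -/
theorem mem_of_index_two {G : Type*} [Group G] {H : Subgroup G} (hH : H.index = 2) {b : G} {n : ℕ}
    (hn : Odd n) (hb : b ^ n = 1) : b ∈ H := by
  obtain ⟨k, rfl⟩ := hn
  have h1 : b ^ 2 ∈ H := Subgroup.sq_mem_of_index_two hH b
  have h2 : b = (b ^ 2) ^ (k + 1) := by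
    rw [← pow_mul, show 2 * (k + 1) = (2 * k + 1) + 1 by ring, pow_succ, hb, one_mul]
  rw [h2]
  exact H.pow_mem h1 _

/-- The range of `Psi`. -/
theorem mem_range {F : Type} [Field F] [Fintype F] {m : ℕ} (hm : 2 ≤ m) (h2 : m = 2 → 3 ≤ Fintype.card F)
    (β : MulAut (Cfsg.PSp m F)) {n : ℕ} (hn : Odd n) (hβ : β ^ n = 1) : β ∈ (Psi m F).range := by
  have hB : ∀ α : MulAut (Cfsg.PSp m F), AutPSpCount.Pres α → α ∈ (Psi m F).range := by
    intro α hα
    obtain ⟨g, hg⟩ := SympAutExists.exists_semi hm α hα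
    exact ⟨g, hg⟩
  by_cases hcase : 3 ≤ m ∨ (2 : F) ≠ 0
  · exact hB _ (SympAutOddA.recog hm hcase β)
  · push Not at hcase
    obtain ⟨hm3, h20⟩ := hcase
    obtain rfl : m = 2 := by omega
    have hchar : CharP F 2 := by
      apply CharTwo.of_one_ne_zero_of_two_eq_zero one_ne_zero h20
    have ht : ∃ t : F, t ≠ 0 ∧ t ≠ 1 := by
      by_contra hcon
      push Not at hcon
      have h3 : Fintype.card F ≤ 2 := by
        classical
        have : (Finset.univ : Finset F) ⊆ {0, 1} := by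
          intro t _
          by_cases h0 : t = 0
          · simp [h0]
          · simp [hcon t h0]
        exact (Finset.card_le_card this).trans (Finset.card_le_two)
      have h4 := h2 rfl
      omega
    exact mem_of_index_two (SympAutTwo.index_two ht hB) hn hβ

/-- The automorphism attached to a semisimilitude is induced by it. -/
theorem ind_Psi {F : Type} [Field F] {m : ℕ} (g : semiSim m F) :
    Ind (QuotientGroup.mk' (Subgroup.center (Matrix.symplecticGroup (Fin m) F))) (rho m F)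
      (g : Equiv.Perm (Fin m ⊕ Fin m → F)) (Psi m F g) :=
  fun s => ⟨conjHom m F g s, rho_conjHom g s, rfl⟩

theorem semiSp_iff {F : Type} [Field F] {m : ℕ} (y : Equiv.Perm (Fin m ⊕ Fin m → F)) :
    SemiSp F m y ↔ y ∈ semiSim m F := by
  constructor
  · rintro ⟨θ, τ, hτ, ⟨h1, h2⟩, h3⟩
    exact ⟨θ, τ, hτ, h1, h2, h3⟩
  · rintro ⟨θ, τ, hτ, h1, h2, h3⟩
    exact ⟨θ, τ, hτ, ⟨h1, h2⟩, h3⟩

theorem meet_PSp {p m : ℕ} [Fact p.Prime] (hp : 5 ≤ p) {F : Type} [Field F] [Fintype F] (hm : 2 ≤ m)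
    (h2 : m = 2 → 3 ≤ Fintype.card F) (h : Cfsg.Agent.H903.SylSemi.SepSp p F m) :
    Cfsg.Agent.H903.SylMeet.Meet p (Cfsg.PSp m F) := by
  intro P hP
  have hfin : Finite (Cfsg.PSp m F) := by
    unfold Cfsg.PSp
    infer_instance
  have hπ : Function.Surjective (QuotientGroup.mk' (Subgroup.center (Matrix.symplecticGroup (Fin m) F))) :=
    QuotientGroup.mk'_surjective _
  refine good_of_sep (T := Cfsg.PSp m F) (F := F) (V := Fin m ⊕ Fin m → F)
    (π := QuotientGroup.mk' (Subgroup.center (Matrix.symplecticGroup (Fin m) F))) hπ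
    (ρ := rho m F) rho_injective (Y := SemiSp F m) ?_ ?_ ?_ ?_ ?_ ?_ hP ?_ ?_ (X' := IsSpMap F m) ?_ h
  · rw [semiSp_iff]; exact one_mem _
  · intro y y' hy hy'
    rw [semiSp_iff] at hy hy' ⊢
    exact mul_mem hy hy'
  · intro a
    rw [semiSp_iff]
    exact ⟨_, _, mul_ne_zero a.ne_zero a.ne_zero, isSemi_scal (m := m) a⟩
  · rintro y ⟨θ, τ, -, hθ, -⟩
    exact ⟨θ, hθ⟩
  · intro s
    exact ⟨(isSemi_rho s).1, (isSemi_rho s).2.1⟩
  · intro s
    rw [semiSp_iff]
    exact ⟨_, _, one_ne_zero, isSemi_rho s⟩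
  · intro β hβ
    obtain ⟨k, hk⟩ := hP ⟨β, hβ⟩
    have hk' : β ^ p ^ k = 1 := congrArg Subtype.val hk
    have hodd : Odd (p ^ k) := Odd.pow ((Fact.out : p.Prime).odd_of_ne_two (by omega))
    obtain ⟨g, rfl⟩ := mem_range hm h2 β hodd hk'
    exact ⟨g, (semiSp_iff _).2 g.2, ind_Psi g⟩
  · intro y hy hind
    have hy' := (semiSp_iff y).1 hy
    have h1 : Psi m F ⟨y, hy'⟩ = 1 := Ind.unique hπ rho_injective (ind_Psi ⟨y, hy'⟩) hind
    obtain ⟨a, ha⟩ := exists_scal_of_Psi_eq_one (by omega) _ h1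
    refine ⟨a, ?_⟩
    ext1 v
    exact DFunLike.congr_fun ha v
  · rintro g ⟨⟨h1, h2⟩, h3⟩
    exact exists_rho_eq g h1 h2 h3

end Cfsg.Agent.H513.MeetPSp
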